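import Mathlib
import Cfsg.Prelude.Def_Solvable
import Cfsg.Agent.S0007
import Cfsg.Agent.SignalizersComponents.PCompCore
import Cfsg.Agent.S0713
import Cfsg.Agent.FastGrp
import Cfsg.Agent.Prune
set_option linter.all false

section
prune_inst 0x7f00000000000000000000000000000000000000000000000000000000000000000000000000000000000000000000000000000000000000000000000000000000000000000000000000000000000000003fffffffffffffffffffffffffffbeffbdffbfffff

-- part: H393/Core
section
set_option linter.all false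
open scoped Cfsg.Agent.FastGrp

/-!
# Subgroups of pairwise coprime indices: reductions

`NoThree T`: the finite group `T` has no three proper subgroups of pairwise coprime indices.  If every
finite simple group satisfies `NoThree`, then no finite group has three core-free subgroups of
pairwise coprime indices (`false_of_three`).
-/

set_option autoImplicit false

namespace Cfsg.Agent.H393

open Subgroup

/-- No three proper subgroups have pairwise coprime indices. -/
def NoThree (T : Type*) [Group T] : Prop :=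
  ∀ A B C : Subgroup T, A ≠ ⊤ → B ≠ ⊤ → C ≠ ⊤ →
    A.index.Coprime B.index → A.index.Coprime C.index → B.index.Coprime C.index → False

theorem index_map_equiv {T T' : Type*} [Group T] [Group T'] (e : T ≃* T') (A : Subgroup T) :
    (A.map e.toMonoidHom).index = A.index := by
  have h := Subgroup.index_comap_of_surjective (H := A.map e.toMonoidHom) (f := e.toMonoidHom)
    e.surjective
  rw [Subgroup.comap_map_eq_self_of_injective (f := e.toMonoidHom) e.injective] at h
  exact h.symm

theorem map_equiv_ne_top {T T' : Type*} [Group T] [Group T'] (e : T ≃* T') {A : Subgroup T}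
    (h : A ≠ ⊤) : A.map e.toMonoidHom ≠ ⊤ := by
  intro hc
  apply h
  rw [eq_top_iff]
  intro x _
  have : e x ∈ A.map e.toMonoidHom := by rw [hc]; trivial
  obtain ⟨y, hy, hyx⟩ := this
  have : y = x := e.injective hyx
  rwa [← this]

theorem NoThree.of_equiv {T T' : Type*} [Group T] [Group T'] (e : T ≃* T') (h : NoThree T) :
    NoThree T' := by
  intro A B C hA hB hC h1 h2 h3
  refine h (A.map e.symm.toMonoidHom) (B.map e.symm.toMonoidHom) (C.map e.symm.toMonoidHom)
    (map_equiv_ne_top e.symm hA) (map_equiv_ne_top e.symm hB) (map_equiv_ne_top e.symm hC) ?_ ?_ ?_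
  all_goals rw [index_map_equiv, index_map_equiv]
  · exact h1
  · exact h2
  · exact h3

/-! ### Normal `r`-subgroups -/

/-- A normal `r`-subgroup lies in every subgroup of index prime to `r`. -/
theorem le_of_isPGroup {H : Type*} [Group H] [Finite H] {r : ℕ} (hr : r.Prime) {M A : Subgroup H}
    (hMn : M.Normal) (hM : IsPGroup r M) (hA : ¬ r ∣ A.index) : M ≤ A := by
  have : Fact r.Prime := ⟨hr⟩
  have h1 : A.relIndex M ∣ A.index :=
    SignalizersComponents.PCompCore.relIndex_dvd_index_of_subnormal A hMn.isSubnormal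
  have h2 : A.relIndex M ∣ Nat.card M := Subgroup.relIndex_dvd_card _ _
  obtain ⟨k, hk⟩ := (IsPGroup.iff_card).1 hM
  rw [hk] at h2
  obtain ⟨j, -, hj⟩ := (Nat.dvd_prime_pow hr).1 h2
  rw [hj] at h1
  rcases Nat.eq_zero_or_pos j with h0 | h0
  · rw [h0, pow_zero] at hj
    exact Subgroup.relIndex_eq_one.1 hj
  · exact absurd ((dvd_pow_self r h0.ne').trans h1) hA

/-- Relative form: `M` is an `r`-subgroup normalised by `A`, and `A ∩ B` has index prime to `r` in
`A`. -/
theorem le_of_isPGroup' {H : Type*} [Group H] [Finite H] {r : ℕ} (hr : r.Prime)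
    {M A B : Subgroup H} (hMA : M ≤ A) (hMn : A ≤ Subgroup.normalizer (M : Set H))
    (hM : IsPGroup r M) (hB : ¬ r ∣ B.relIndex A) : M ≤ B := by
  have h1 : (M.subgroupOf A).Normal := by
    rw [Subgroup.normal_subgroupOf_iff_le_normalizer hMA]
    exact hMn
  have h2 : IsPGroup r (M.subgroupOf A) := hM.comap_of_injective A.subtype A.subtype_injective
  have h3 := le_of_isPGroup hr h1 h2 (A := B.subgroupOf A) hB
  intro x hx
  exact Subgroup.mem_subgroupOf.1 (h3 (x := ⟨x, hMA hx⟩) (Subgroup.mem_subgroupOf.2 hx))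

/-- **Lemma F.** In a simple group with proper subgroups `A`, `B`, `C` of pairwise coprime indices,
`A` has no nontrivial normal `r`-subgroup. -/
theorem eq_bot_of_isPGroup {T : Type*} [Group T] [Finite T] [IsSimpleGroup T] {A B C : Subgroup T}
    (hB : B ≠ ⊤) (hC : C ≠ ⊤) (h1 : A.index.Coprime B.index) (h2 : A.index.Coprime C.index)
    (h3 : B.index.Coprime C.index) {r : ℕ} (hr : r.Prime) {M : Subgroup T} (hMA : M ≤ A)
    (hMn : A ≤ Subgroup.normalizer (M : Set T)) (hM : IsPGroup r M) : M = ⊥ := by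
  have key : ∀ B : Subgroup T, B ≠ ⊤ → A.index.Coprime B.index → ¬ r ∣ B.index → M = ⊥ := by
    intro B hB h1 hrB
    have h4 : B.relIndex A = B.index := S0007.relIndex_eq B A h1.symm
    have h5 : M ≤ B := le_of_isPGroup' hr hMA hMn hM (by rw [h4]; exact hrB)
    have h6 : Subgroup.normalClosure (M : Set T) ≤ B := by
      rw [Subgroup.normalClosure, Subgroup.closure_le]
      intro x hx
      rw [Group.mem_conjugatesOfSet_iff] at hx
      obtain ⟨y, hy, hyx⟩ := hx
      obtain ⟨g, rfl⟩ := isConj_iff.1 hyx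
      obtain ⟨b, hb, a, ha, rfl⟩ := S0007.exists_mul_eq B A h1.symm g
      have h7 : a * y * a⁻¹ ∈ M := (Subgroup.mem_normalizer_iff.1 (hMn ha) y).1 hy
      have h8 : b * a * y * (b * a)⁻¹ = b * (a * y * a⁻¹) * b⁻¹ := by group
      rw [h8]
      exact B.mul_mem (B.mul_mem hb (h5 h7)) (B.inv_mem hb)
    rcases (inferInstance : (Subgroup.normalClosure (M : Set T)).Normal).eq_bot_or_eq_top with h | h
    · rw [eq_bot_iff, ← h]
      exact Subgroup.le_normalClosure
    · rw [h] at h6
      exact absurd (top_le_iff.1 h6) hB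
  by_cases hrB : r ∣ B.index
  · refine key C hC h2 (fun hrC => ?_)
    have := Nat.dvd_gcd hrB hrC
    rw [h3] at this
    exact hr.one_lt.ne' (Nat.dvd_one.1 this)
  · exact key B hB h1 hrB

/-- Every proper subgroup of index prime to `p` and `q` has a nontrivial normal subgroup of prime
power order. -/
def NoBad (p q : ℕ) (T : Type*) [Group T] : Prop :=
  ∀ R : Subgroup T, R ≠ ⊤ → ¬ p ∣ R.index → ¬ q ∣ R.index →
    ∃ r : ℕ, r.Prime ∧ ∃ M : Subgroup T, M ≤ R ∧ M ≠ ⊥ ∧ IsPGroup r M ∧
      R ≤ Subgroup.normalizer (M : Set T)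

/-- The two-prime criterion. -/
theorem NoBad.noThree {p q : ℕ} (hp : p.Prime) (hq : q.Prime) {T : Type*} [Group T] [Finite T]
    [IsSimpleGroup T] (h : NoBad p q T) : NoThree T := by
  intro A B C hA hB hC h1 h2 h3
  have cop : ∀ {r a b : ℕ}, r.Prime → a.Coprime b → r ∣ a → ¬ r ∣ b := by
    intro r a b hr hab ha hb
    have := Nat.dvd_gcd ha hb
    rw [hab] at this
    exact hr.one_lt.ne' (Nat.dvd_one.1 this)
  have key : ∀ A B C : Subgroup T, A ≠ ⊤ → B ≠ ⊤ → C ≠ ⊤ → A.index.Coprime B.index →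
      A.index.Coprime C.index → B.index.Coprime C.index → ¬ p ∣ A.index → ¬ q ∣ A.index →
      False := by
    intro A B C hA hB hC h1 h2 h3 hpA hqA
    obtain ⟨r, hr, M, hM1, hM2, hM3, hM4⟩ := h A hA hpA hqA
    exact hM2 (eq_bot_of_isPGroup hB hC h1 h2 h3 hr hM1 hM4 hM3)
  by_cases hpA : p ∣ A.index
  · by_cases hqB : q ∣ B.index
    · exact key C A B hC hA hB h2.symm h3.symm h1 (cop hp h2 hpA) (cop hq h3 hqB)
    · exact key B A C hB hA hC h1.symm h3 h2 (cop hp h1 hpA) hqB
  · by_cases hqA : q ∣ A.index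
    · by_cases hpB : p ∣ B.index
      · exact key C A B hC hA hB h2.symm h3.symm h1 (cop hp h3 hpB) (cop hq h2 hqA)
      · exact key B A C hB hA hC h1.symm h3 h2 hpB (cop hq h1 hqA)
    · exact key A B C hA hB hC h1 h2 h3 hpA hqA

/-! ### Groups of prime order -/

theorem noThree_of_prime {T : Type*} [Group T] [Finite T] (h : (Nat.card T).Prime) : NoThree T := by
  intro A B C hA hB _ h1 _ _
  have key : ∀ A : Subgroup T, A ≠ ⊤ → A.index = Nat.card T := by
    intro A hA
    rcases (Nat.dvd_prime h).1 A.index_dvd_card with h2 | h2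
    · exact absurd (Subgroup.index_eq_one.1 h2) hA
    · exact h2
  rw [key A hA, key B hB, Nat.coprime_self] at h1
  exact h.one_lt.ne' h1

/-! ### Subnormal simple subgroups and the reduction -/

theorem exists_simple_subnormal (H : Type*) [Group H] [Finite H] [Nontrivial H] :
    ∃ T : Subgroup H, T.IsSubnormal ∧ IsSimpleGroup T := by
  classical
  obtain ⟨T, hT⟩ := Set.Finite.exists_minimal
    (Set.toFinite {T : Subgroup H | T.IsSubnormal ∧ T ≠ ⊥}) ⟨⊤, by
      refine ⟨Subgroup.Normal.isSubnormal inferInstance, top_ne_bot⟩⟩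
  refine ⟨T, hT.prop.1, ?_⟩
  have : Nontrivial T := (Subgroup.nontrivial_iff_ne_bot T).2 hT.prop.2
  refine ⟨fun N hN => ?_⟩
  by_contra hc
  push Not at hc
  have h1 : (N.map T.subtype).IsSubnormal := hN.isSubnormal.trans' hT.prop.1
  have h2 : N.map T.subtype ≠ ⊥ := by
    intro h
    exact hc.1 ((Subgroup.map_eq_bot_iff_of_injective _ T.subtype_injective).1 h)
  have h3 : N.map T.subtype ≤ T := Subgroup.map_subtype_le N
  have h4 := hT.le_of_le (y := N.map T.subtype) ⟨h1, h2⟩ h3
  apply hc.2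
  rw [eq_top_iff]
  intro x _
  obtain ⟨y, hy, hyx⟩ := h4 x.2
  have : y = x := Subtype.ext hyx
  rwa [← this]

/-- A core-free subgroup has a conjugate not containing a given nontrivial subgroup. -/
theorem exists_conj_not_le {H : Type*} [Group H] {A : Subgroup H} (hA : A.normalCore = ⊥)
    {T : Subgroup H} (hT : T ≠ ⊥) : ∃ h : H, ¬ T ≤ A.map (MulAut.conj h).toMonoidHom := by
  by_contra hc
  push Not at hc
  apply hT
  rw [eq_bot_iff, ← hA]
  intro x hx g
  obtain ⟨y, hy, hyx⟩ := hc g⁻¹ hx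
  have h1 : g⁻¹ * y * g = x := by
    have : g⁻¹ * y * g⁻¹⁻¹ = x := hyx
    rwa [inv_inv] at this
  have h2 : g * x * g⁻¹ = y := by rw [← h1]; group
  rw [h2]
  exact hy

/-- If all simple groups satisfy `NoThree`, no nontrivial finite group has three core-free subgroups
of pairwise coprime indices. -/
theorem false_of_three {H : Type*} [Group H] [Finite H] [Nontrivial H]
    (hall : ∀ T : Subgroup H, IsSimpleGroup T → NoThree T) {A B C : Subgroup H}
    (hA : A.normalCore = ⊥) (hB : B.normalCore = ⊥) (hC : C.normalCore = ⊥)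
    (h1 : A.index.Coprime B.index) (h2 : A.index.Coprime C.index)
    (h3 : B.index.Coprime C.index) : False := by
  obtain ⟨T, hTs, hT⟩ := exists_simple_subnormal H
  have hne : T ≠ ⊥ := (Subgroup.nontrivial_iff_ne_bot T).1 hT.toNontrivial
  have key : ∀ A : Subgroup H, A.normalCore = ⊥ →
      ∃ A' : Subgroup T, A' ≠ ⊤ ∧ A'.index ∣ A.index := by
    intro A hA
    obtain ⟨h, hh⟩ := exists_conj_not_le hA hne
    refine ⟨(A.map (MulAut.conj h).toMonoidHom).subgroupOf T, ?_, ?_⟩
    · intro hc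
      exact hh (Subgroup.subgroupOf_eq_top.1 hc)
    · have h4 := SignalizersComponents.PCompCore.relIndex_dvd_index_of_subnormal
        (A.map (MulAut.conj h).toMonoidHom) hTs
      rw [index_map_equiv] at h4
      exact h4
  obtain ⟨A', hA1, hA2⟩ := key A hA
  obtain ⟨B', hB1, hB2⟩ := key B hB
  obtain ⟨C', hC1, hC2⟩ := key C hC
  exact hall T hT A' B' C' hA1 hB1 hC1 (Nat.Coprime.of_dvd hA2 hB2 h1)
    (Nat.Coprime.of_dvd hA2 hC2 h2) (Nat.Coprime.of_dvd hB2 hC2 h3)

/-- A nontrivial Fitting subgroup contains a nontrivial normal `p`-subgroup. -/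
theorem exists_normal_pgroup {H : Type*} [Group H] [Finite H]
    (h : Cfsg.fittingSubgroup H ≠ ⊥) :
    ∃ p : ℕ, p.Prime ∧ ∃ M : Subgroup H, M.Normal ∧ M ≠ ⊥ ∧ IsPGroup p M := by
  obtain ⟨N, ⟨hN, hnil⟩, hne⟩ : ∃ N : Subgroup H, (N.Normal ∧ Group.IsNilpotent N) ∧ N ≠ ⊥ := by
    by_contra hc
    push Not at hc
    apply h
    rw [Cfsg.fittingSubgroup, eq_bot_iff]
    apply sSup_le
    intro N hN
    rw [hc N hN]
  have hnt : Nontrivial N := (Subgroup.nontrivial_iff_ne_bot N).2 hne
  have hcard : Nat.card N ≠ 1 := by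
    have := Finite.one_lt_card (α := N)
    omega
  obtain ⟨p, hp, hpN⟩ := Nat.exists_prime_and_dvd hcard
  have : Fact p.Prime := ⟨hp⟩
  obtain ⟨P⟩ : Nonempty (Sylow p N) := inferInstance
  have htf : Group.IsNilpotent N ↔
      ∀ (p : ℕ) (_ : Fact p.Prime) (P : Sylow p N), (P : Subgroup N).Normal :=
    (Group.isNilpotent_of_finite_tfae (G := N)).out 0 3
  have hPn : (P : Subgroup N).Normal := htf.1 hnil p this P
  have hPc : (P : Subgroup N).Characteristic := Sylow.characteristic_of_normal P hPn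
  refine ⟨p, hp, (P : Subgroup N).map N.subtype, ?_, ?_, P.2.map N.subtype⟩
  · exact ConjAct.normal_of_characteristic_of_normal
  · intro hc
    have h1 := (Subgroup.map_eq_bot_iff_of_injective _ N.subtype_injective).1 hc
    have h2 := P.ne_bot_of_dvd_card hpN
    exact h2 h1

/-- Two core-free subgroups of coprime indices force the Fitting subgroup to be trivial. -/
theorem false_of_two {H : Type*} [Group H] [Finite H] (h : Cfsg.fittingSubgroup H ≠ ⊥)
    {A B : Subgroup H} (hA : A.normalCore = ⊥) (hB : B.normalCore = ⊥)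
    (h1 : A.index.Coprime B.index) : False := by
  obtain ⟨p, hp, M, hM1, hM2, hM3⟩ := exists_normal_pgroup h
  have key : ∀ A : Subgroup H, A.normalCore = ⊥ → ¬ p ∣ A.index → False := by
    intro A hA hpA
    apply hM2
    rw [eq_bot_iff, ← hA]
    exact (Subgroup.normal_le_normalCore (hN := hM1)).2 (le_of_isPGroup hp hM1 hM3 hpA)
  by_cases hpA : p ∣ A.index
  · refine key B hB (fun hpB => ?_)
    have := Nat.dvd_gcd hpA hpB
    rw [h1] at this
    exact hp.one_lt.ne' (Nat.dvd_one.1 this)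
  · exact key A hA hpA

end Cfsg.Agent.H393
end

-- part: H393/AltNoThree
section
set_option linter.all false
open scoped Cfsg.Agent.FastGrp

-- part: H393/AltBlocks
section
/-!
# Alternating groups have no three proper subgroups of pairwise coprime indices: block lemmas
-/

set_option autoImplicit false
set_option linter.unusedSectionVars false

namespace Cfsg.Agent.H393.Alt

open MulAction Equiv Equiv.Perm
open scoped Pointwise

variable {α : Type*} [Fintype α] [DecidableEq α]

/-- Blocks in elementary form. -/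
def Blk (X : Subgroup (Perm α)) (E : Set α) : Prop :=
  ∀ g ∈ X, ∀ x ∈ E, g x ∈ E → ∀ y, y ∈ E ↔ g y ∈ E

theorem exists_block {X : Subgroup (Perm α)} (ht : IsPretransitive X α)
    (hX : ¬ IsPreprimitive X α) :
    ∃ E : Set α, (∃ x ∈ E, ∃ y ∈ E, x ≠ y) ∧ (∃ z, z ∉ E) ∧ Blk X E := by
  by_contra hc
  push Not at hc
  apply hX
  refine ⟨fun {E} hE => ?_⟩
  by_contra hn
  rw [IsTrivialBlock, not_or] at hn
  obtain ⟨h1, h2⟩ := hn
  rw [Set.not_subsingleton_iff] at h1
  obtain ⟨x, hx, y, hy, hxy⟩ := h1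
  obtain ⟨z, hz⟩ := (Set.ne_univ_iff_exists_notMem E).1 h2
  refine hc E ⟨x, hx, y, hy, hxy⟩ ⟨z, hz⟩ ?_
  intro g hg a ha hga b
  rcases isBlock_iff_smul_eq_or_disjoint.1 hE (⟨g, hg⟩ : X) with h | h
  · constructor
    · intro hb
      have : (⟨g, hg⟩ : X) • b ∈ (⟨g, hg⟩ : X) • E := Set.smul_mem_smul_set hb
      rw [h] at this
      exact this
    · intro hb
      have h3 : g b ∈ (⟨g, hg⟩ : X) • E := by rw [h]; exact hb
      obtain ⟨c, hc1, hc2⟩ := h3
      have : c = b := g.injective hc2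
      rwa [← this]
  · exfalso
    have h3 : g a ∈ (⟨g, hg⟩ : X) • E := Set.smul_mem_smul_set (a := (⟨g, hg⟩ : X)) ha
    exact Set.disjoint_left.1 h h3 hga

theorem Blk.translate {X : Subgroup (Perm α)} {E : Set α} (hE : Blk X E) {h : Perm α}
    (hh : h ∈ X) : Blk X {a | h⁻¹ a ∈ E} := by
  intro g hg a ha hga b
  have h1 : h⁻¹ * g * h ∈ X := X.mul_mem (X.mul_mem (X.inv_mem hh) hg) hh
  have h2 := hE _ h1 (h⁻¹ a) ha (by simpa only [Perm.mul_apply, _root_.Equiv.Perm.coe_inv, _root_.Equiv.apply_symm_apply, _root_.Set.mem_ofPred_eq] using hga) (h⁻¹ b)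
  simpa only [Perm.mul_apply, _root_.Equiv.Perm.coe_inv, _root_.Set.mem_ofPred_eq, _root_.Equiv.apply_symm_apply] using h2

theorem exists_mem_apply_eq {X : Subgroup (Perm α)} (ht : IsPretransitive X α) (x y : α) :
    ∃ g ∈ X, g x = y := by
  obtain ⟨g, hg⟩ := exists_smul_eq X x y
  exact ⟨g, g.2, hg⟩

/-- An imprimitive transitive group contains no `q`-cycle for a prime `q > n / 2`. -/
theorem false_of_cycle {X : Subgroup (Perm α)} (ht : IsPretransitive X α)
    (hX : ¬ IsPreprimitive X α) {q : ℕ} (hq : q.Prime) (hqn : Fintype.card α < 2 * q)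
    {g : Perm α} (hg : g ∈ X) (hgc : g.IsCycle) (hgq : g.support.card = q) : False := by
  obtain ⟨E₀, ⟨x₀, hx₀, x₁, hx₁, hx01⟩, ⟨z, hz⟩, hE₀⟩ := exists_block ht hX
  obtain ⟨y, hy, hyc⟩ := hgc
  have hgc : g.IsCycle := ⟨y, hy, hyc⟩
  obtain ⟨h, hh, hhy⟩ := exists_mem_apply_eq ht x₀ y
  obtain ⟨E, hEdef⟩ : ∃ E : Set α, E = {a | h⁻¹ a ∈ E₀} := ⟨_, rfl⟩
  have hE : Blk X E := by rw [hEdef]; exact hE₀.translate hh
  have hyE : y ∈ E := by
    rw [hEdef]
    show h⁻¹ y ∈ E₀
    rw [← hhy]
    simpa using hx₀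
  have hwE : h x₁ ∈ E := by
    rw [hEdef]
    show h⁻¹ (h x₁) ∈ E₀
    simpa using hx₁
  have hwy : h x₁ ≠ y := by
    rw [← hhy]
    intro hc
    exact hx01 (h.injective hc).symm
  have hzE : h z ∉ E := by
    rw [hEdef]
    show ¬ h⁻¹ (h z) ∈ E₀
    simpa using hz
  -- `g` preserves `E`
  have hgy : g y ∈ E := by
    by_contra hgy
    have hw : g (h x₁) ≠ h x₁ := by
      intro hc
      apply hgy
      exact (hE g hg (h x₁) hwE (by rw [hc]; exact hwE) y).1 hyE
    obtain ⟨i, hi⟩ := hgc.exists_pow_eq hy hw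
    have h1 : ∀ b, b ∈ E ↔ (g ^ i) b ∈ E :=
      hE (g ^ i) (X.pow_mem hg i) y hyE (by rw [hi]; exact hwE)
    have hord : orderOf g = q := by rw [hgc.orderOf, hgq]
    have h2 : Nat.Coprime i q := by
      rw [Nat.coprime_comm, Nat.Prime.coprime_iff_not_dvd hq]
      rintro ⟨k, rfl⟩
      apply hwy
      rw [← hi, pow_mul, ← hord, pow_orderOf_eq_one, one_pow, Perm.one_apply]
    obtain ⟨j, hj⟩ : ∃ j : ℕ, (g ^ i) ^ j = g := by
      have h3 : (orderOf g).Coprime i := by rw [hord]; exact h2.symm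
      exact exists_pow_eq_self_of_coprime h3.symm
    apply hgy
    have h4 : ∀ (k : ℕ) (b : α), b ∈ E → ((g ^ i) ^ k) b ∈ E := by
      intro k
      induction k with
      | zero => intro b hb; simpa using hb
      | succ k ih =>
        intro b hb
        rw [pow_succ, Perm.mul_apply]
        exact ih _ ((h1 b).1 hb)
    have := h4 j y hyE
    rwa [hj] at this
  have hgE : ∀ b, b ∈ E ↔ g b ∈ E := hE g hg y hyE hgy
  have hpow : ∀ (k : ℕ), (g ^ k) y ∈ E := by
    intro k
    induction k with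
    | zero => simpa using hyE
    | succ k ih =>
      rw [pow_succ', Perm.mul_apply]
      exact (hgE _).1 ih
  have hsupp : (g.support : Set α) ⊆ E := by
    intro b hb
    rw [Finset.mem_coe, Perm.mem_support] at hb
    obtain ⟨i, hi⟩ := hgc.exists_pow_eq hy hb
    rw [← hi]
    exact hpow i
  -- a disjoint translate
  obtain ⟨k, hk, hkz⟩ := exists_mem_apply_eq ht y (h z)
  have hdis : _root_.Disjoint E (k '' E) := by
    rw [Set.disjoint_left]
    rintro a ha ⟨b, hb, rfl⟩
    have := (hE k hk b hb ha y).1 hyE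
    rw [hkz] at this
    exact hzE this
  have hc1 : q ≤ E.ncard := by
    rw [← hgq, ← Set.ncard_coe_finset]
    exact Set.ncard_le_ncard hsupp (Set.toFinite _)
  have hc2 : (k '' E).ncard = E.ncard := Set.ncard_image_of_injective _ k.injective
  have hc3 : (E ∪ k '' E).ncard = E.ncard + (k '' E).ncard :=
    Set.ncard_union_eq hdis (Set.toFinite _) (Set.toFinite _)
  have hc4 : (E ∪ k '' E).ncard ≤ Fintype.card α := by
    rw [← Nat.card_eq_fintype_card, ← Set.ncard_univ]
    exact Set.ncard_le_ncard (Set.subset_univ _) (Set.toFinite _)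
  omega

/-! ### Homogeneity -/

/-- The alternating group is transitive on the subsets of a given size. -/
theorem exists_alt_map {S S' : Finset α} (h : S.card = S'.card) (h3 : 3 ≤ Fintype.card α) :
    ∃ g : Perm α, sign g = 1 ∧ S.image g = S' := by
  classical
  have e : {x // x ∈ S} ≃ {x // x ∈ S'} := Fintype.equivOfCardEq (by simpa only [_root_.Fintype.card_coe] using h)
  obtain ⟨σ, hσ⟩ : ∃ σ : Perm α, ∀ x ∈ S, σ x ∈ S' :=
    ⟨e.extendSubtype, fun x hx => Equiv.extendSubtype_mem e x hx⟩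
  have himg : S.image σ = S' := by
    apply Finset.eq_of_subset_of_card_le
    · intro y hy
      obtain ⟨x, hx, rfl⟩ := Finset.mem_image.1 hy
      exact hσ x hx
    · rw [Finset.card_image_of_injective _ σ.injective, h]
  rcases Int.units_eq_one_or (sign σ) with hs | hs
  · exact ⟨σ, hs, himg⟩
  · have hsum := Finset.card_add_card_compl S'
    have hex : ∃ x y : α, x ≠ y ∧ (x ∈ S' ↔ y ∈ S') := by
      rcases Nat.lt_or_ge 1 S'.card with h1 | h1
      · obtain ⟨x, hx, y, hy, hxy⟩ := Finset.one_lt_card.1 h1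
        exact ⟨x, y, hxy, by simp [hx, hy]⟩
      · have h2 : 1 < (S'ᶜ).card := by omega
        obtain ⟨x, hx, y, hy, hxy⟩ := Finset.one_lt_card.1 h2
        rw [Finset.mem_compl] at hx hy
        exact ⟨x, y, hxy, by simp [hx, hy]⟩
    obtain ⟨x, y, hxy, hiff⟩ := hex
    refine ⟨swap x y * σ, ?_, ?_⟩
    · rw [Equiv.Perm.sign_mul, sign_swap hxy, hs]
      rfl
    · have h5 : S.image (swap x y * σ) = S'.image (swap x y) := by
        rw [← himg, Finset.image_image]
        rfl
      rw [h5]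
      apply Finset.eq_of_subset_of_card_le
      · intro a ha
        obtain ⟨b, hb, rfl⟩ := Finset.mem_image.1 ha
        by_cases hbx : b = x
        · rw [hbx, swap_apply_left]
          rw [hbx] at hb
          exact hiff.1 hb
        · by_cases hby : b = y
          · rw [hby, swap_apply_right]
            rw [hby] at hb
            exact hiff.2 hb
          · rw [swap_apply_of_ne_of_ne hbx hby]
            exact hb
      · rw [Finset.card_image_of_injective _ (swap x y).injective]

/-- Every alternating permutation is a product. -/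
def Fac (B A : Subgroup (Perm α)) : Prop := ∀ g : Perm α, sign g = 1 → ∃ b ∈ B, ∃ a ∈ A, g = b * a

theorem Fac.exists_image {B A : Subgroup (Perm α)} (h : Fac B A) {D : Finset α}
    (hD : ∀ a ∈ A, D.image a = D) (h3 : 3 ≤ Fintype.card α) {S : Finset α}
    (hS : S.card = D.card) : ∃ b ∈ B, D.image b = S := by
  obtain ⟨g, hg, hgS⟩ := exists_alt_map hS.symm h3
  obtain ⟨b, hb, a, ha, rfl⟩ := h g hg
  refine ⟨b, hb, ?_⟩
  rw [← hgS]
  have h5 : D.image (b * a) = (D.image a).image b := by
    rw [Finset.image_image]; rfl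
  rw [h5, hD a ha]

/-- Two intransitive groups do not factorise the alternating group. -/
theorem false_of_two_intransitive {A B : Subgroup (Perm α)} (h : Fac B A) {D D' : Finset α}
    (hD : ∀ a ∈ A, D.image a = D) (hD' : ∀ b ∈ B, D'.image b = D')
    (h1 : 1 ≤ D.card) (h2 : 2 * D.card ≤ Fintype.card α) (h1' : 1 ≤ D'.card)
    (h2' : 2 * D'.card ≤ Fintype.card α) (h3 : 3 ≤ Fintype.card α) : False := by
  have hsum := Finset.card_add_card_compl D'
  obtain ⟨S, hS, hSc⟩ := Finset.exists_subset_card_eq (s := D'ᶜ) (n := D.card) (by omega)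
  obtain ⟨x, hx⟩ := Finset.card_pos.1 (Nat.lt_of_lt_of_le Nat.zero_lt_one h1')
  obtain ⟨S', hS', -, hSc'⟩ := Finset.exists_subsuperset_card_eq (s := {x}) (t := Finset.univ)
    (n := D.card) (Finset.subset_univ _) (by simpa using h1) (by rw [Finset.card_univ]; omega)
  have hxS' : x ∈ S' := hS' (Finset.mem_singleton_self x)
  obtain ⟨b, hb, hbS⟩ := h.exists_image hD h3 hSc
  obtain ⟨b', hb', hbS'⟩ := h.exists_image hD h3 hSc'
  -- `b' b⁻¹` maps `S` to `S'` and preserves `D'`
  have hx' : b * b'⁻¹ ∈ B := B.mul_mem hb (B.inv_mem hb')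
  have hxD : b'⁻¹ x ∈ D := by
    rw [← hbS'] at hxS'
    obtain ⟨y, hy, hyx⟩ := Finset.mem_image.1 hxS'
    rw [← hyx]
    simpa using hy
  have h5 : b (b'⁻¹ x) ∈ S := by
    rw [← hbS]
    exact Finset.mem_image_of_mem _ hxD
  have h6 : b (b'⁻¹ x) ∈ D' := by
    rw [← hD' _ hx']
    exact Finset.mem_image_of_mem (b * b'⁻¹) hx
  exact (Finset.mem_compl.1 (hS h5)) h6

/-- An imprimitive group is not homogeneous of degree `k`, `2 ≤ k ≤ n / 2`. -/
theorem false_of_imprimitive {A B : Subgroup (Perm α)} (h : Fac B A) (ht : IsPretransitive B α)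
    (hB : ¬ IsPreprimitive B α) {D : Finset α} (hD : ∀ a ∈ A, D.image a = D)
    (h1 : 2 ≤ D.card) (h2 : 2 * D.card ≤ Fintype.card α) : False := by
  classical
  obtain ⟨E, ⟨x, hx, u, hu, hxu⟩, ⟨z, hz⟩, hE⟩ := exists_block ht hB
  have h3 : 3 ≤ Fintype.card α := by omega
  obtain ⟨g₀, hg₀, hg₀x⟩ := exists_mem_apply_eq ht x z
  -- the block of `z`
  obtain ⟨Ez, hEz⟩ : ∃ Ez : Finset α, Ez = (Finset.univ.filter (fun a => a ∈ E)).image g₀ :=
    ⟨_, rfl⟩
  have hmemEz : ∀ a, a ∈ Ez ↔ g₀⁻¹ a ∈ E := by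
    intro a
    rw [hEz, Finset.mem_image]
    constructor
    · rintro ⟨b, hb, rfl⟩
      simpa only [_root_.Equiv.Perm.coe_inv, _root_.Equiv.symm_apply_apply, _root_.Finset.mem_filter, _root_.Finset.mem_univ, _root_.true_and] using hb
    · intro ha
      exact ⟨g₀⁻¹ a, by simpa only [_root_.Equiv.Perm.coe_inv, _root_.Finset.mem_filter, _root_.Finset.mem_univ, _root_.true_and] using ha, by simp⟩
  have hdisj : ∀ a ∈ E, a ∉ Ez := by
    intro a ha haz
    rw [hmemEz] at haz
    -- `g₀` maps `g₀⁻¹ a ∈ E` to `a ∈ E`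
    have h5 := (hE g₀ hg₀ (g₀⁻¹ a) haz (by simpa using ha) x).1 hx
    rw [hg₀x] at h5
    exact hz h5
  have hcardz : 2 * Ez.card ≤ Fintype.card α := by
    have h5 : Ez.card = (Finset.univ.filter (fun a => a ∈ E)).card := by
      rw [hEz, Finset.card_image_of_injective _ g₀.injective]
    have h6 : _root_.Disjoint Ez (Finset.univ.filter (fun a => a ∈ E)) := by
      rw [Finset.disjoint_right]
      intro a ha
      exact hdisj a (Finset.mem_filter.1 ha).2
    have h7 := Finset.card_union_of_disjoint h6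
    have h8 : (Ez ∪ (Finset.univ.filter (fun a => a ∈ E))).card ≤ Fintype.card α :=
      Finset.card_le_univ _
    omega
  have huz : u ∉ Ez := hdisj u hu
  have hxz : x ∉ Ez := hdisj x hx
  -- the set `S'`
  have hsub : ({u} : Finset α) ⊆ (Ezᶜ).erase x := by
    rw [Finset.singleton_subset_iff, Finset.mem_erase]
    exact ⟨hxu.symm, Finset.mem_compl.2 huz⟩
  have hcs := Finset.card_add_card_compl Ez
  have hce : ((Ezᶜ).erase x).card = (Ezᶜ).card - 1 :=
    Finset.card_erase_of_mem (Finset.mem_compl.2 hxz)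
  obtain ⟨S', hS1, hS2, hS3⟩ := Finset.exists_subsuperset_card_eq (n := D.card - 1) hsub
    (by rw [Finset.card_singleton]; omega) (by omega)
  have huS : u ∈ S' := hS1 (Finset.mem_singleton_self u)
  have hxS : x ∉ S' := fun hc => (Finset.mem_erase.1 (hS2 hc)).1 rfl
  have hzEz : z ∈ Ez := by
    rw [hmemEz, ← hg₀x]
    simpa using hx
  have hzS : z ∉ S' := fun hc => (Finset.mem_compl.1 (Finset.mem_erase.1 (hS2 hc)).2) hzEz
  -- the invariant relation
  let r : α → α → Prop := fun a b => ∃ g ∈ B, g⁻¹ a ∈ E ∧ g⁻¹ b ∈ E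
  have hr : ∀ g ∈ B, ∀ a b, r a b → r (g a) (g b) := by
    rintro g hg a b ⟨k, hk, h5, h6⟩
    refine ⟨g * k, B.mul_mem hg hk, ?_, ?_⟩
    · simpa [mul_inv_rev, Perm.mul_apply] using h5
    · simpa [mul_inv_rev, Perm.mul_apply] using h6
  have hr' : ∀ g ∈ B, ∀ a b, r (g a) (g b) ↔ r a b := by
    intro g hg a b
    refine ⟨fun h5 => ?_, hr g hg a b⟩
    have := hr g⁻¹ (B.inv_mem hg) _ _ h5
    simpa using this
  have hrefl : ∀ a, r a a := by
    intro a
    obtain ⟨g, hg, hgx⟩ := exists_mem_apply_eq ht x a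
    refine ⟨g, hg, ?_, ?_⟩ <;> (rw [← hgx]; simpa using hx)
  have hrz : ∀ b ∈ S', ¬ r z b := by
    rintro b hb ⟨k, hk, h5, h6⟩
    apply Finset.mem_compl.1 (Finset.mem_erase.1 (hS2 hb)).2
    rw [hmemEz]
    have h7 : g₀⁻¹ * k ∈ B := B.mul_mem (B.inv_mem hg₀) hk
    have h9 : (g₀⁻¹ * k) (k⁻¹ z) ∈ E := by
      have h10 : (g₀⁻¹ * k) (k⁻¹ z) = x := by
        rw [← hg₀x]
        simp [Perm.mul_apply]
      rw [h10]
      exact hx
    have h8 := (hE _ h7 (k⁻¹ z) h5 h9 (k⁻¹ b)).1 h6
    simpa [Perm.mul_apply] using h8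
  have hrz' : ∀ b ∈ S', ¬ r b z := by
    rintro b hb ⟨k, hk, h5, h6⟩
    exact hrz b hb ⟨k, hk, h6, h5⟩
  have hrxu : r x u := ⟨1, B.one_mem, by simpa using hx, by simpa using hu⟩
  let c : Finset α → ℕ := fun S => ((S ×ˢ S).filter (fun p => r p.1 p.2)).card
  have hc : ∀ g ∈ B, ∀ S : Finset α, c (S.image g) = c S := by
    intro g hg S
    have h5 : ((S.image g ×ˢ S.image g).filter (fun p => r p.1 p.2)) =
        ((S ×ˢ S).filter (fun p => r p.1 p.2)).image (fun p => (g p.1, g p.2)) := by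
      ext ⟨a, b⟩
      simp only [Finset.mem_filter, Finset.mem_product, Finset.mem_image, Prod.exists, Prod.mk.injEq]
      constructor
      · rintro ⟨⟨⟨a', ha', rfl⟩, ⟨b', hb', rfl⟩⟩, h6⟩
        exact ⟨a', b', ⟨⟨ha', hb'⟩, (hr' g hg _ _).1 h6⟩, rfl, rfl⟩
      · rintro ⟨a', b', ⟨⟨ha', hb'⟩, h6⟩, rfl, rfl⟩
        exact ⟨⟨⟨a', ha', rfl⟩, ⟨b', hb', rfl⟩⟩, hr g hg _ _ h6⟩
    show ((S.image g ×ˢ S.image g).filter (fun p => r p.1 p.2)).card = _
    rw [h5, Finset.card_image_of_injective]
    rintro ⟨a, b⟩ ⟨a', b'⟩ h6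
    simp only [Prod.mk.injEq] at h6
    rw [g.injective h6.1, g.injective h6.2]
  have hcard1 : (insert x S').card = D.card := by
    rw [Finset.card_insert_of_notMem hxS]; omega
  have hcard2 : (insert z S').card = D.card := by
    rw [Finset.card_insert_of_notMem hzS]; omega
  obtain ⟨b₁, hb₁, hb₁'⟩ := h.exists_image hD h3 hcard1
  obtain ⟨b₂, hb₂, hb₂'⟩ := h.exists_image hD h3 hcard2
  have heq : c (insert x S') = c (insert z S') := by
    rw [← hb₁', ← hb₂', hc b₁ hb₁, hc b₂ hb₂]
  -- upper bound for `z`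
  have hup : c (insert z S') ≤ c S' + 1 := by
    have h5 : ((insert z S' ×ˢ insert z S').filter (fun p => r p.1 p.2)) ⊆
        insert (z, z) ((S' ×ˢ S').filter (fun p => r p.1 p.2)) := by
      rintro ⟨a, b⟩ hab
      simp only [Finset.mem_filter, Finset.mem_product, Finset.mem_insert] at hab ⊢
      obtain ⟨⟨ha, hb⟩, hab⟩ := hab
      rcases ha with rfl | ha
      · rcases hb with rfl | hb
        · exact Or.inl rfl
        · exact absurd hab (hrz b hb)
      · rcases hb with rfl | hb
        · exact absurd hab (hrz' a ha)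
        · exact Or.inr ⟨⟨ha, hb⟩, hab⟩
    exact (Finset.card_le_card h5).trans (Finset.card_insert_le _ _)
  have hlo : c S' + 2 ≤ c (insert x S') := by
    have h5 : insert (x, x) (insert (x, u) ((S' ×ˢ S').filter (fun p => r p.1 p.2))) ⊆
        ((insert x S' ×ˢ insert x S').filter (fun p => r p.1 p.2)) := by
      rintro ⟨a, b⟩ hab
      simp only [Finset.mem_filter, Finset.mem_product, Finset.mem_insert, Prod.mk.injEq] at hab ⊢
      rcases hab with ⟨rfl, rfl⟩ | ⟨rfl, rfl⟩ | ⟨⟨ha, hb⟩, hab⟩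
      · exact ⟨⟨Or.inl rfl, Or.inl rfl⟩, hrefl _⟩
      · exact ⟨⟨Or.inl rfl, Or.inr huS⟩, hrxu⟩
      · exact ⟨⟨Or.inr ha, Or.inr hb⟩, hab⟩
    have h6 : (x, u) ∉ ((S' ×ˢ S').filter (fun p => r p.1 p.2)) := by
      intro hc
      exact hxS (Finset.mem_product.1 (Finset.mem_filter.1 hc).1).1
    have h7 : (x, x) ∉ insert (x, u) ((S' ×ˢ S').filter (fun p => r p.1 p.2)) := by
      rw [Finset.mem_insert, not_or]
      refine ⟨fun hc => hxu (Prod.mk.inj hc).2, fun hc => ?_⟩
      exact hxS (Finset.mem_product.1 (Finset.mem_filter.1 hc).1).1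
    have h8 := Finset.card_le_card h5
    rw [Finset.card_insert_of_notMem h7, Finset.card_insert_of_notMem h6] at h8
    exact h8
  omega

end Cfsg.Agent.H393.Alt
end

-- part: H393/AltNoThree
section
/-!
# Alternating groups have no three proper subgroups of pairwise coprime indices
-/

set_option autoImplicit false
set_option linter.unusedSectionVars false

namespace Cfsg.Agent.H393.Alt

open MulAction Equiv Equiv.Perm

variable {α : Type*} [Fintype α] [DecidableEq α]

/-- The subgroup of `Perm α` underlying a subgroup of the alternating group. -/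
abbrev up (X : Subgroup (alternatingGroup α)) : Subgroup (Perm α) :=
  X.map (alternatingGroup α).subtype

theorem mem_up {X : Subgroup (alternatingGroup α)} {g : alternatingGroup α} :
    (g : Perm α) ∈ up X ↔ g ∈ X := by
  constructor
  · rintro ⟨h, hh, hhg⟩
    have : h = g := Subtype.ext hhg
    rwa [← this]
  · intro h
    exact ⟨g, h, rfl⟩

theorem ne_top_of {X : Subgroup (alternatingGroup α)} (hX : X ≠ ⊤) :
    ¬ alternatingGroup α ≤ up X := by
  intro h
  apply hX
  rw [eq_top_iff]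
  intro g _
  exact mem_up.1 (h g.2)

theorem fac_of_coprime {A B : Subgroup (alternatingGroup α)} (h : B.index.Coprime A.index) :
    Fac (up B) (up A) := by
  intro g hg
  obtain ⟨b, hb, a, ha, hba⟩ := S0007.exists_mul_eq B A h ⟨g, hg⟩
  refine ⟨b, mem_up.2 hb, a, mem_up.2 ha, ?_⟩
  exact congrArg Subtype.val hba

/-- A subgroup of index prime to the odd prime `q` contains a `q`-cycle. -/
theorem exists_cycle {X : Subgroup (alternatingGroup α)} {q : ℕ} (hq : q.Prime) (hq2 : q ≠ 2)
    (hqn : q ≤ Fintype.card α) (hX : ¬ q ∣ X.index) :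
    ∃ g ∈ up X, g.IsCycle ∧ g.support.card = q := by
  have : Fact q.Prime := ⟨hq⟩
  obtain ⟨c, hc⟩ := (Equiv.Perm.exists_with_cycleType_iff α (m := {q})).2 ⟨by simpa only [_root_.Multiset.sum_singleton] using hqn, by
    intro a ha
    rw [Multiset.mem_singleton] at ha
    rw [ha]
    exact hq.two_le⟩
  have hcc : c.IsCycle := by
    rw [← Equiv.Perm.card_cycleType_eq_one, hc]
    rfl
  have hcs : c.support.card = q := by
    rw [← Equiv.Perm.sum_cycleType, hc]
    simp
  have hsign : sign c = 1 := by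
    rw [hcc.sign, hcs, (hq.odd_of_ne_two hq2).neg_one_pow, neg_neg]
  obtain ⟨t, ht⟩ : ∃ t : alternatingGroup α, t = ⟨c, hsign⟩ := ⟨_, rfl⟩
  have htq : t ^ q = 1 := by
    apply Subtype.ext
    rw [ht]
    show c ^ q = 1
    rw [← hcs, ← hcc.orderOf, pow_orderOf_eq_one]
  have hP : IsPGroup q (Subgroup.zpowers t) := by
    rw [IsPGroup.iff_card]
    have h1 : Nat.card (Subgroup.zpowers t) ∣ q ^ 1 := by
      rw [Nat.card_zpowers, pow_one]
      exact orderOf_dvd_of_pow_eq_one htq
    obtain ⟨k, -, hk⟩ := (Nat.dvd_prime_pow hq).1 h1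
    exact ⟨k, hk⟩
  have hcard : ¬ q ∣ Nat.card (alternatingGroup α ⧸ X) := hX
  obtain ⟨x, hx⟩ := hP.nonempty_fixed_point_of_prime_not_dvd_card (alternatingGroup α ⧸ X) hcard
  obtain ⟨g, rfl⟩ := QuotientGroup.mk_surjective x
  have h2 := hx ⟨t, Subgroup.mem_zpowers t⟩
  have h3 : ((t * g : alternatingGroup α) : alternatingGroup α ⧸ X) = (g : alternatingGroup α ⧸ X) :=
    h2
  rw [eq_comm, QuotientGroup.eq] at h3
  refine ⟨_, mem_up.2 h3, ?_, ?_⟩
  · have h4 : ((g⁻¹ * (t * g) : alternatingGroup α) : Perm α) =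
        (g : Perm α)⁻¹ * c * (g : Perm α)⁻¹⁻¹ := by
      rw [ht]
      show (g : Perm α)⁻¹ * (c * (g : Perm α)) = _
      group
    rw [h4]
    exact hcc.conj
  · have h4 : ((g⁻¹ * (t * g) : alternatingGroup α) : Perm α) =
        (g : Perm α)⁻¹ * c * (g : Perm α)⁻¹⁻¹ := by
      rw [ht]
      show (g : Perm α)⁻¹ * (c * (g : Perm α)) = _
      group
    rw [h4, Equiv.Perm.card_support_conj, hcs]

/-- An intransitive group preserves a set of size at most `n / 2`. -/
theorem exists_inv_set {X : Subgroup (Perm α)} (hn : 1 ≤ Fintype.card α)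
    (hX : ¬ IsPretransitive X α) :
    ∃ D : Finset α, 1 ≤ D.card ∧ 2 * D.card ≤ Fintype.card α ∧ ∀ g ∈ X, D.image g = D := by
  classical
  have hne : Nonempty α := Fintype.card_pos_iff.1 hn
  obtain ⟨x, y, hxy⟩ : ∃ x y : α, ∀ g ∈ X, g x ≠ y := by
    by_contra hc
    push Not at hc
    apply hX
    refine ⟨fun x y => ?_⟩
    obtain ⟨g, hg, hgx⟩ := hc x y
    exact ⟨⟨g, hg⟩, hgx⟩
  obtain ⟨D, hD⟩ : ∃ D : Finset α, D = Finset.univ.filter (fun a => ∃ g ∈ X, g x = a) := ⟨_, rfl⟩
  have hmem : ∀ a, a ∈ D ↔ ∃ g ∈ X, g x = a := by intro a; simp [hD]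
  have hxD : x ∈ D := (hmem x).2 ⟨1, X.one_mem, rfl⟩
  have hyD : y ∉ D := by
    intro h
    obtain ⟨g, hg, hgx⟩ := (hmem y).1 h
    exact hxy g hg hgx
  have hinv : ∀ g ∈ X, D.image g = D := by
    intro g hg
    apply Finset.eq_of_subset_of_card_le
    · intro a ha
      obtain ⟨b, hb, rfl⟩ := Finset.mem_image.1 ha
      obtain ⟨k, hk, rfl⟩ := (hmem b).1 hb
      exact (hmem _).2 ⟨g * k, X.mul_mem hg hk, rfl⟩
    · rw [Finset.card_image_of_injective _ g.injective]
  have hinv' : ∀ g ∈ X, (Dᶜ).image g = Dᶜ := by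
    intro g hg
    apply Finset.eq_of_subset_of_card_le
    · intro a ha
      obtain ⟨b, hb, rfl⟩ := Finset.mem_image.1 ha
      rw [Finset.mem_compl] at hb ⊢
      intro hc
      rw [← hinv g hg] at hc
      obtain ⟨d, hd, hdb⟩ := Finset.mem_image.1 hc
      rw [g.injective hdb] at hd
      exact hb hd
    · rw [Finset.card_image_of_injective _ g.injective]
  have hsum := Finset.card_add_card_compl D
  have h1 : 1 ≤ D.card := Finset.card_pos.2 ⟨x, hxD⟩
  have h2 : 1 ≤ (Dᶜ).card := Finset.card_pos.2 ⟨y, Finset.mem_compl.2 hyD⟩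
  by_cases h : 2 * D.card ≤ Fintype.card α
  · exact ⟨D, h1, h, hinv⟩
  · exact ⟨Dᶜ, h2, by omega, hinv'⟩

theorem eq_of_primitive {X : Subgroup (alternatingGroup α)} (hX : X ≠ ⊤)
    (hp : IsPreprimitive (up X) α) {q : ℕ} (hq : q.Prime) (hn : 5 ≤ Fintype.card α)
    (hqn : q + 3 ≤ Fintype.card α) {g : Perm α} (hg : g ∈ up X) (hgc : g.IsCycle)
    (hgs : g.support.card = q) : False :=
  ne_top_of hX (S0713.result (up X) hp hq hn hqn hgc hgs hg)

theorem cop_false {a b r : ℕ} (hr : r.Prime) (hab : a.Coprime b) (ha : r ∣ a) (hb : r ∣ b) :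
    False := by
  have := Nat.dvd_gcd ha hb
  rw [hab] at this
  exact hr.one_lt.ne' (Nat.dvd_one.1 this)

/-- Having a Sylow `3`-subgroup and being transitive implies imprimitive. -/
theorem not_primitive_of_three {X : Subgroup (alternatingGroup α)} (hX : X ≠ ⊤)
    (hn : 5 ≤ Fintype.card α) (h3 : ¬ 3 ∣ X.index) : ¬ IsPreprimitive (up X) α := by
  intro hp
  obtain ⟨g, hg, hgc, hgs⟩ := exists_cycle Nat.prime_three (by norm_num) (by omega) h3
  refine ne_top_of hX ?_
  exact Equiv.Perm.alternatingGroup_le_of_isPreprimitive_of_isThreeCycle_mem hp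
    (card_support_eq_three_iff.1 hgs) hg

/-- The final configuration: `A` intransitive, `B`, `C` transitive, `B` imprimitive. -/
theorem final {A B C : Subgroup (alternatingGroup α)} (hC : C ≠ ⊤)
    (hn : 5 ≤ Fintype.card α) (hAB : A.index.Coprime B.index) (hAC : A.index.Coprime C.index)
    (hBC : B.index.Coprime C.index)
    (hAi : ¬ IsPretransitive (up A) α) (hBt : IsPretransitive (up B) α)
    (hBi : ¬ IsPreprimitive (up B) α) (hCp : IsPreprimitive (up C) α)
    (hC3 : 3 ∣ C.index) : False := by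
  -- `n` divides the index of `A`
  obtain ⟨D, hD1, hD2, hD⟩ := exists_inv_set (by omega) hAi
  have hD1' : D.card = 1 := by
    by_contra hc
    exact false_of_imprimitive (fac_of_coprime hAB.symm) hBt hBi hD (by omega) hD2
  obtain ⟨a, ha⟩ := Finset.card_eq_one.1 hD1'
  have hfix : ∀ g ∈ up A, g a = a := by
    intro g hg
    have h1 := hD g hg
    rw [ha, Finset.image_singleton, Finset.singleton_inj] at h1
    exact h1
  have hnA : Fintype.card α ∣ A.index := by
    have h3 : (3 : ℕ) ≤ Nat.card α := by rw [Nat.card_eq_fintype_card]; omega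
    have htr : IsPretransitive (alternatingGroup α) α :=
      alternatingGroup.isPretransitive_of_three_le_card α h3
    have h1 : (stabilizer (alternatingGroup α) a).index = Fintype.card α := by
      rw [index_stabilizer_of_transitive, Nat.card_eq_fintype_card]
    rw [← h1]
    apply Subgroup.index_dvd_of_le
    intro g hg
    exact hfix g (mem_up.2 hg)
  -- odd primes
  have hlarge : ∀ q : ℕ, q.Prime → q ≠ 2 → q ≤ Fintype.card α → Fintype.card α < 2 * q →
      q ∣ B.index := by
    intro q hq hq2 hqn hq1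
    by_contra hc
    obtain ⟨g, hg, hgc, hgs⟩ := exists_cycle hq hq2 hqn hc
    exact false_of_cycle hBt hBi hq hq1 hg hgc hgs
  have hsmall : ∀ q : ℕ, q.Prime → q ≠ 2 → q + 3 ≤ Fintype.card α → q ∣ C.index := by
    intro q hq hq2 hqn
    by_contra hc
    obtain ⟨g, hg, hgc, hgs⟩ := exists_cycle hq hq2 (by omega) hc
    exact eq_of_primitive hC hCp hq hn hqn hg hgc hgs
  have hodd : ∀ q : ℕ, q.Prime → q ∣ Fintype.card α → q = 2 := by
    intro q hq hqn
    by_contra hq2
    have hle : q ≤ Fintype.card α := Nat.le_of_dvd (by omega) hqn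
    by_cases h1 : q + 3 ≤ Fintype.card α
    · exact cop_false hq hAC (hqn.trans hnA) (hsmall q hq hq2 h1)
    · have h2 : Fintype.card α < 2 * q := by
        by_contra h3
        push Not at h3
        omega
      exact cop_false hq hAB (hqn.trans hnA) (hlarge q hq hq2 hle h2)
  -- `n` is a power of two
  obtain ⟨e, he⟩ : ∃ e : ℕ, Fintype.card α = 2 ^ e := by
    have h1 := Nat.eq_prime_pow_of_unique_prime_dvd (n := Fintype.card α) (p := 2) (by omega)
      (fun {d} hd hdn => hodd d hd hdn)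
    exact ⟨_, h1⟩
  obtain ⟨f, rfl⟩ : ∃ f : ℕ, e = f + 3 := by
    have : 3 ≤ e := by
      by_contra hc
      push Not at hc
      have : e = 0 ∨ e = 1 ∨ e = 2 := by omega
      rcases this with h | h | h <;> (rw [h] at he; norm_num only [] at he; omega)
    exact ⟨e - 3, by omega⟩
  have hm : Fintype.card α = 2 * (2 * (2 * 2 ^ f)) := by rw [he, pow_add]; ring
  have hfpos : 1 ≤ 2 ^ f := Nat.one_le_two_pow
  obtain ⟨q, hq, hq1, hq2⟩ := Nat.exists_prime_lt_and_le_two_mul (2 * (2 * 2 ^ f) - 1) (by omega)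
  have hqm : q ≠ 2 * (2 * 2 ^ f) := by
    rintro rfl
    have h1 : 2 ∣ 2 * (2 * 2 ^ f) := Dvd.intro _ rfl
    rcases (Nat.dvd_prime hq).1 h1 with h2 | h2 <;> omega
  have hqn2 : q ≠ Fintype.card α - 2 := by
    intro h
    have h1 : 2 ∣ q := by
      rw [h, hm]
      exact Dvd.intro (2 * (2 * 2 ^ f) - 1) (by omega)
    rcases (Nat.dvd_prime hq).1 h1 with h2 | h2 <;> (clear * - h2 hm h; omega)
  have hq22 : q ≠ 2 := by (clear * - hq1 hq2; omega)
  exact cop_false hq hBC (hlarge q hq hq22 (by (clear * - hm hq2; omega)) (by (clear * - hm hq1 hqm; omega))) (hsmall q hq hq22 (by (clear * - hn he hm hq2 hqn2; omega)))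

theorem noThree_alternating (hn : 5 ≤ Fintype.card α) : NoThree (alternatingGroup α) := by
  intro A B C hA hB hC h1 h2 h3
  -- a Bertrand prime
  obtain ⟨p, hp, hp1, hp2⟩ := Nat.exists_prime_lt_and_le_two_mul (Fintype.card α / 2) (by omega)
  have hp2' : p ≠ 2 := by omega
  have hpn : p ≤ Fintype.card α := by omega
  have hpn2 : Fintype.card α < 2 * p := by omega
  -- transitive groups with a `p`-cycle are primitive
  have hprim : ∀ X : Subgroup (alternatingGroup α), IsPretransitive (up X) α → ¬ p ∣ X.index →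
      IsPreprimitive (up X) α := by
    intro X ht hpX
    by_contra hc
    obtain ⟨g, hg, hgc, hgs⟩ := exists_cycle hp hp2' hpn hpX
    exact false_of_cycle ht hc hp hpn2 hg hgc hgs
  -- not both intransitive
  have hint : ∀ X Y : Subgroup (alternatingGroup α), X.index.Coprime Y.index →
      ¬ IsPretransitive (up X) α → ¬ IsPretransitive (up Y) α → False := by
    intro X Y hXY hX hY
    obtain ⟨D, hD1, hD2, hD⟩ := exists_inv_set (by omega) hX
    obtain ⟨D', hD1', hD2', hD'⟩ := exists_inv_set (by omega) hY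
    exact false_of_two_intransitive (fac_of_coprime hXY.symm) hD hD' hD1 hD2 hD1' hD2' (by omega)
  -- a subgroup with both primes is intransitive
  have hboth : ∀ X : Subgroup (alternatingGroup α), X ≠ ⊤ → ¬ 3 ∣ X.index → ¬ p ∣ X.index →
      ¬ IsPretransitive (up X) α := by
    intro X hX h3X hpX ht
    exact not_primitive_of_three hX hn h3X (hprim X ht hpX)
  -- the main case
  have main : ∀ A B C : Subgroup (alternatingGroup α), A ≠ ⊤ → B ≠ ⊤ → C ≠ ⊤ →
      A.index.Coprime B.index → A.index.Coprime C.index → B.index.Coprime C.index →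
      ¬ 3 ∣ A.index → ¬ p ∣ A.index → ¬ 3 ∣ B.index → False := by
    intro A B C hA hB hC h1 h2 h3 h3A hpA h3B
    have hAi := hboth A hA h3A hpA
    have hBt : IsPretransitive (up B) α := by
      by_contra hc
      exact hint A B h1 hAi hc
    have hCt : IsPretransitive (up C) α := by
      by_contra hc
      exact hint A C h2 hAi hc
    have hBi := not_primitive_of_three hB hn h3B
    have hpB : p ∣ B.index := by
      by_contra hc
      exact hBi (hprim B hBt hc)
    have hpC : ¬ p ∣ C.index := fun hc => cop_false hp h3 hpB hc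
    have hCp := hprim C hCt hpC
    have hC3 : 3 ∣ C.index := by
      by_contra hc
      exact not_primitive_of_three hC hn hc hCp
    exact final hC hn h1 h2 h3 hAi hBt hBi hCp hC3
  -- distribution of the primes `3` and `p`
  have main' : ∀ A B C : Subgroup (alternatingGroup α), A ≠ ⊤ → B ≠ ⊤ → C ≠ ⊤ →
      A.index.Coprime B.index → A.index.Coprime C.index → B.index.Coprime C.index →
      ¬ 3 ∣ A.index → ¬ p ∣ A.index → False := by
    intro A B C hA hB hC h1 h2 h3 h3A hpA
    by_cases h3B : 3 ∣ B.index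
    · have h3C : ¬ 3 ∣ C.index := fun hc => cop_false Nat.prime_three h3 h3B hc
      exact main A C B hA hC hB h2 h1 h3.symm h3A hpA h3C
    · exact main A B C hA hB hC h1 h2 h3 h3A hpA h3B
  by_cases h3A : 3 ∣ A.index
  · have h3B : ¬ 3 ∣ B.index := fun hc => cop_false Nat.prime_three h1 h3A hc
    have h3C : ¬ 3 ∣ C.index := fun hc => cop_false Nat.prime_three h2 h3A hc
    by_cases hpB : p ∣ B.index
    · have hpC : ¬ p ∣ C.index := fun hc => cop_false hp h3 hpB hc
      exact main' C A B hC hA hB h2.symm h3.symm h1 h3C hpC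
    · exact main' B A C hB hA hC h1.symm h3 h2 h3B hpB
  · by_cases hpA : p ∣ A.index
    · have hpB : ¬ p ∣ B.index := fun hc => cop_false hp h1 hpA hc
      have hpC : ¬ p ∣ C.index := fun hc => cop_false hp h2 hpA hc
      by_cases h3B : 3 ∣ B.index
      · have h3C : ¬ 3 ∣ C.index := fun hc => cop_false Nat.prime_three h3 h3B hc
        exact main' C A B hC hA hB h2.symm h3.symm h1 h3C hpC
      · exact main' B A C hB hA hC h1.symm h3 h2 h3B hpB
    · exact main' A B C hA hB hC h1 h2 h3 h3A hpA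

end Cfsg.Agent.H393.Alt
end
end
end
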