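import Mathlib
set_option linter.all false

/-!
# The subgroup generated by the derangements of a transitive group

Counting lemmas: `derSub G Ω` is the subgroup generated by the fixed-point-free elements.  If `G` is
transitive on the nonempty finite set `Ω`, then `derSub G Ω` is transitive and every element outside it
has exactly one fixed point.
-/

set_option autoImplicit false

namespace Cfsg.Agent.H393

open MulAction

/-- The subgroup generated by the derangements. -/
abbrev derSub (G Ω : Type*) [Group G] [MulAction G Ω] : Subgroup G :=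
  Subgroup.closure {g : G | ∀ ω : Ω, g • ω ≠ ω}

/-- Burnside's lemma with `Nat.card`. -/
theorem burnside_natCard (G X : Type*) [Group G] [Fintype G] [MulAction G X] [Finite X] :
    ∑ g : G, Nat.card (fixedBy X g) = Nat.card (orbitRel.Quotient G X) * Nat.card G := by
  classical
  have : Fintype X := Fintype.ofFinite X
  have : ∀ g : G, Fintype (fixedBy X g) := fun g => Fintype.ofFinite _
  have : Fintype (orbitRel.Quotient G X) := Fintype.ofFinite _
  have h := sum_card_fixedBy_eq_card_orbits_mul_card_group G X
  simp only [Nat.card_eq_fintype_card]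
  convert h using 2

open Classical in
/-- Burnside's lemma for a subgroup, summed over a finset of the group. -/
theorem burnside_subgroup (G X : Type*) [Group G] [Fintype G] [MulAction G X] [Finite X]
    (D : Subgroup G) :
    ∑ g ∈ Finset.univ.filter (fun g : G => g ∈ D), Nat.card (fixedBy X g) =
      Nat.card (orbitRel.Quotient D X) * Nat.card D := by
  have : Fintype D := Fintype.ofFinite _
  rw [← burnside_natCard D X]
  refine Finset.sum_bij' (fun g hg => (⟨g, by simpa using hg⟩ : D)) (fun g _ => (g : G)) ?_ ?_ ?_ ?_ ?_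
  · intro g _; exact Finset.mem_univ _
  · intro g _; simp
  · intro g _; rfl
  · intro g _; rfl
  · intro g _; rfl

theorem card_orbits_pos (G X : Type*) [Group G] [MulAction G X] [Finite X] [Nonempty X] :
    1 ≤ Nat.card (orbitRel.Quotient G X) := by
  have : Nonempty (orbitRel.Quotient G X) := ⟨Quotient.mk'' (Classical.arbitrary X)⟩
  exact Nat.card_pos

theorem card_orbits_eq_one (G X : Type*) [Group G] [MulAction G X] [Nonempty X]
    (h : IsPretransitive G X) : Nat.card (orbitRel.Quotient G X) = 1 := by
  rw [Nat.card_eq_one_iff_unique]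
  refine ⟨?_, ⟨Quotient.mk'' (Classical.arbitrary X)⟩⟩
  exact (pretransitive_iff_subsingleton_quotient G X).1 h

theorem pretransitive_of_card_orbits_eq_one (G X : Type*) [Group G] [MulAction G X]
    (h : Nat.card (orbitRel.Quotient G X) = 1) : IsPretransitive G X := by
  rw [Nat.card_eq_one_iff_unique] at h
  exact (pretransitive_iff_subsingleton_quotient G X).2 h.1

theorem one_le_card_fixedBy {G Ω : Type*} [Group G] [MulAction G Ω] [Finite Ω]
    {g : G} (hg : g ∉ derSub G Ω) : 1 ≤ Nat.card (fixedBy Ω g) := by
  by_contra hcon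
  apply hg
  apply Subgroup.subset_closure
  intro ω hω
  apply hcon
  have : Nonempty (fixedBy Ω g) := ⟨⟨ω, hω⟩⟩
  exact Nat.card_pos

open Classical in
/-- The key counting: the derangement subgroup has one orbit, and elements outside have one fixed
point. -/
theorem derSub_key (G Ω : Type*) [Group G] [Finite G] [MulAction G Ω] [Finite Ω] [Nonempty Ω]
    (htrans : IsPretransitive G Ω) :
    Nat.card (orbitRel.Quotient (derSub G Ω) Ω) = 1 ∧
      ∀ g : G, g ∉ derSub G Ω → Nat.card (fixedBy Ω g) = 1 := by
  have : Fintype G := Fintype.ofFinite G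
  set D := derSub G Ω with hD
  have h1 := burnside_natCard G Ω
  rw [card_orbits_eq_one G Ω htrans, one_mul] at h1
  have h2 := burnside_subgroup G Ω D
  have h3 := Finset.sum_filter_add_sum_filter_not (Finset.univ : Finset G) (fun g => g ∈ D)
    (fun g => Nat.card (fixedBy Ω g))
  have h4 := Finset.card_filter_add_card_filter_not (s := (Finset.univ : Finset G)) (fun g => g ∈ D)
  have h5 : (Finset.univ.filter (fun g : G => g ∈ D)).card = Nat.card D := by
    rw [Nat.card_eq_fintype_card]
    exact (Fintype.card_subtype _).symm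
  have h6 : (Finset.univ : Finset G).card = Nat.card G := by
    rw [Nat.card_eq_fintype_card]; rfl
  have hr := card_orbits_pos D Ω
  have hle : ∀ g ∈ Finset.univ.filter (fun g : G => ¬ g ∈ D), 1 ≤ Nat.card (fixedBy Ω g) := by
    intro g hg
    rw [Finset.mem_filter] at hg
    exact one_le_card_fixedBy hg.2
  have h7 : (Finset.univ.filter (fun g : G => ¬ g ∈ D)).card ≤
      ∑ g ∈ Finset.univ.filter (fun g : G => ¬ g ∈ D), Nat.card (fixedBy Ω g) := by
    rw [Finset.card_eq_sum_ones]
    exact Finset.sum_le_sum hle
  have hDpos : 0 < Nat.card D := Nat.card_pos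
  have hmul : Nat.card D ≤ Nat.card (orbitRel.Quotient D Ω) * Nat.card D :=
    Nat.le_mul_of_pos_left _ hr
  have hr1 : Nat.card (orbitRel.Quotient D Ω) * Nat.card D = 1 * Nat.card D := by
    omega
  refine ⟨Nat.eq_of_mul_eq_mul_right hDpos hr1, ?_⟩
  have h8 : ∑ g ∈ Finset.univ.filter (fun g : G => ¬ g ∈ D), 1 =
      ∑ g ∈ Finset.univ.filter (fun g : G => ¬ g ∈ D), Nat.card (fixedBy Ω g) := by
    rw [← Finset.card_eq_sum_ones]
    omega
  have h9 := (Finset.sum_eq_sum_iff_of_le hle).1 h8
  intro g hg
  exact (h9 g (by simp [hg])).symm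

theorem derSub_normal (G Ω : Type*) [Group G] [MulAction G Ω] : (derSub G Ω).Normal := by
  have hS : ∀ g : G, ∀ x ∈ {g : G | ∀ ω : Ω, g • ω ≠ ω}, g * x * g⁻¹ ∈ {g : G | ∀ ω : Ω, g • ω ≠ ω} := by
    intro g x hx ω hω
    apply hx (g⁻¹ • ω)
    have := congrArg (fun y => g⁻¹ • y) hω
    simpa [mul_smul] using this
  constructor
  intro n hn g
  refine Subgroup.closure_induction (p := fun x _ => g * x * g⁻¹ ∈ derSub G Ω) ?_ ?_ ?_ ?_ hn
  · intro x hx
    exact Subgroup.subset_closure (hS g x hx)
  · simp
  · intro x y _ _ hx hy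
    have : g * (x * y) * g⁻¹ = (g * x * g⁻¹) * (g * y * g⁻¹) := by group
    rw [this]; exact mul_mem hx hy
  · intro x _ hx
    have : g * x⁻¹ * g⁻¹ = (g * x * g⁻¹)⁻¹ := by group
    rw [this]; exact inv_mem hx

end Cfsg.Agent.H393
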