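import Cfsg.Agent.H393.Derange
set_option linter.all false

/-!
# The index of the derangement subgroup divides the degree minus one
-/

set_option autoImplicit false

namespace Cfsg.Agent.H393

open MulAction

/-- If all point stabilizers of an action contain `K`... then `K.index` divides every orbit length
sum, i.e. the size of the set. -/
theorem index_dvd_card_of_stabilizer_le {H X : Type*} [Group H] [Finite H] [MulAction H X] [Finite X]
    (K : Subgroup H) (hK : ∀ x : X, stabilizer H x ≤ K) : K.index ∣ Nat.card X := by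
  classical
  have : Fintype (orbitRel.Quotient H X) := Fintype.ofFinite _
  rw [Nat.card_congr (selfEquivSigmaOrbitsQuotientStabilizer H X), Nat.card_sigma]
  apply Finset.dvd_sum
  intro ω _
  exact Subgroup.index_dvd_of_le (hK ω.out)

theorem mem_of_two_fixed {G Ω : Type*} [Group G] [Finite G] [MulAction G Ω] [Finite Ω]
    (htrans : IsPretransitive G Ω) {g : G} {a b : Ω} (hab : a ≠ b) (ha : g • a = a) (hb : g • b = b) :
    g ∈ derSub G Ω := by
  have : Nonempty Ω := ⟨a⟩
  by_contra hg
  have h := (derSub_key G Ω htrans).2 g hg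
  rw [Nat.card_eq_one_iff_unique] at h
  have := h.1
  have h2 : (⟨a, ha⟩ : fixedBy Ω g) = ⟨b, hb⟩ := Subsingleton.elim _ _
  exact hab (congrArg Subtype.val h2)

/-- `G = D * G_a`. -/
theorem derSub_sup_stabilizer {G Ω : Type*} [Group G] [Finite G] [MulAction G Ω] [Finite Ω]
    (htrans : IsPretransitive G Ω) (a : Ω) : derSub G Ω ⊔ stabilizer G a = ⊤ := by
  have : Nonempty Ω := ⟨a⟩
  have ht := pretransitive_of_card_orbits_eq_one _ _ (derSub_key G Ω htrans).1
  rw [eq_top_iff]
  intro g _
  obtain ⟨d, hd⟩ := ht.exists_smul_eq a (g • a)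
  have h1 : (d : G)⁻¹ * g ∈ stabilizer G a := by
    rw [mem_stabilizer_iff, mul_smul, ← hd]
    exact inv_smul_smul (d : G) a
  have h2 : g = (d : G) * ((d : G)⁻¹ * g) := by group
  rw [h2]
  exact mul_mem (Subgroup.mem_sup_left d.2) (Subgroup.mem_sup_right h1)

theorem derSub_index_eq {G Ω : Type*} [Group G] [Finite G] [MulAction G Ω] [Finite Ω]
    (htrans : IsPretransitive G Ω) (a : Ω) :
    (derSub G Ω).index = ((derSub G Ω).subgroupOf (stabilizer G a)).index := by
  have := derSub_normal G Ω
  have h := Subgroup.relIndex_sup_left (stabilizer G a) (derSub G Ω)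
  rw [derSub_sup_stabilizer htrans a, Subgroup.relIndex_top_right] at h
  exact h

theorem stab_le_subgroupOf {G Ω : Type*} [Group G] [Finite G] [MulAction G Ω] [Finite Ω]
    (htrans : IsPretransitive G Ω) (a : Ω) (x : SubMulAction.ofStabilizer G a) :
    stabilizer (stabilizer G a) x ≤ (derSub G Ω).subgroupOf (stabilizer G a) := by
  intro h hx
  rw [Subgroup.mem_subgroupOf]
  have hx' : (x : Ω) ≠ a := (SubMulAction.mem_ofStabilizer_iff G a).1 x.2
  refine mem_of_two_fixed htrans hx' ?_ h.2
  rw [mem_stabilizer_iff] at hx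
  exact congrArg Subtype.val hx

theorem derSub_index_dvd {G Ω : Type*} [Group G] [Finite G] [MulAction G Ω] [Finite Ω]
    (htrans : IsPretransitive G Ω) [Nonempty Ω] :
    (derSub G Ω).index ∣ Nat.card Ω - 1 := by
  obtain ⟨a⟩ := ‹Nonempty Ω›
  rw [derSub_index_eq htrans a, ← SubMulAction.nat_card_ofStabilizer_eq G a]
  exact index_dvd_card_of_stabilizer_le _ (stab_le_subgroupOf htrans a)

theorem isPrimePow_of_derSub_index_eq {G Ω : Type*} [Group G] [Finite G] [MulAction G Ω]
    [FaithfulSMul G Ω] [Finite Ω]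
    (htrans : IsPretransitive G Ω) (hΩ : 2 ≤ Nat.card Ω)
    (hidx : (derSub G Ω).index = Nat.card Ω - 1) : IsPrimePow (Nat.card Ω) := by
  classical
  have hne : Nonempty Ω := by
    by_contra h
    rw [not_nonempty_iff] at h
    simp at hΩ
  obtain ⟨a⟩ := id hne
  have hcX := SubMulAction.nat_card_ofStabilizer_eq G a
  have hDi := derSub_index_eq htrans a
  set H := stabilizer G a with hH
  set D := derSub G Ω with hD
  set X := SubMulAction.ofStabilizer G a with hX
  -- every stabilizer in `X` has index `n - 1`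
  have h1 : ∀ x : X, (stabilizer H x).index = Nat.card X ∧ stabilizer H x = D.subgroupOf H := by
    intro x
    have e1 : D.index ∣ (stabilizer H x).index := by
      rw [hDi]; exact Subgroup.index_dvd_of_le (stab_le_subgroupOf htrans a x)
    have e2 : (stabilizer H x).index ≤ Nat.card X := by
      rw [index_stabilizer, ← Nat.card_coe_set_eq]
      exact Nat.card_le_card_of_injective (Subtype.val) Subtype.val_injective
    have e3 : 0 < (stabilizer H x).index := Nat.pos_of_ne_zero Subgroup.FiniteIndex.index_ne_zero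
    have e4 := Nat.le_of_dvd e3 e1
    have e5 : (stabilizer H x).index = Nat.card X := by omega
    refine ⟨e5, ?_⟩
    refine Subgroup.eq_of_le_of_card_ge (stab_le_subgroupOf htrans a x) ?_
    have e6 := (stabilizer H x).card_mul_index
    have e7 := (D.subgroupOf H).card_mul_index
    rw [← hDi, hidx, ← hcX] at e7
    rw [e5] at e6
    rw [← e6] at e7
    exact (Nat.eq_of_mul_eq_mul_right (by omega) e7).le
  -- hence `H ∩ D` is trivial
  have h2 : ∀ g : G, g ∈ D → g • a = a → g = 1 := by
    intro g hg hga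
    apply FaithfulSMul.eq_of_smul_eq_smul (α := Ω)
    intro ω
    rw [one_smul]
    by_cases hω : ω = a
    · rw [hω, hga]
    · have hxm : ω ∈ X := (SubMulAction.mem_ofStabilizer_iff G a).2 hω
      have h3 := (h1 ⟨ω, hxm⟩).2
      have h4 : (⟨g, hga⟩ : H) ∈ stabilizer H (⟨ω, hxm⟩ : X) := by
        rw [h3]; exact hg
      rw [mem_stabilizer_iff] at h4
      exact congrArg Subtype.val h4
  -- `X` nonempty and `H` transitive on `X`
  have hXpos : 0 < Nat.card X := by omega
  have htX : ∀ x y : X, ∃ h : H, h • x = y := by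
    intro x y
    have e1 := (h1 x).1
    rw [index_stabilizer] at e1
    have e2 : orbit H x = Set.univ := by
      apply Set.eq_of_subset_of_ncard_le (Set.subset_univ _)
      rw [Set.ncard_univ, e1]
    have e3 : y ∈ orbit H x := by rw [e2]; exact Set.mem_univ _
    exact e3
  have hDn := derSub_normal G Ω
  have hDt := pretransitive_of_card_orbits_eq_one _ _ (derSub_key G Ω htrans).1
  -- card D = n
  have hcardD : Nat.card D = Nat.card Ω := by
    have e1 : stabilizer D a = ⊥ := by
      rw [eq_bot_iff]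
      intro d hd
      rw [Subgroup.mem_bot]
      exact Subtype.ext (h2 d d.2 hd)
    have e2 := index_stabilizer_of_transitive D a
    rw [e1, Subgroup.index_bot] at e2
    exact e2
  -- all nonidentity elements of D are conjugate
  have hconj : ∀ x y : G, x ∈ D → y ∈ D → x ≠ 1 → y ≠ 1 → ∃ h : G, y = h * x * h⁻¹ := by
    intro x y hx hy hx1 hy1
    have hxa : x • a ≠ a := fun h => hx1 (h2 x hx h)
    have hya : y • a ≠ a := fun h => hy1 (h2 y hy h)
    obtain ⟨h, hh⟩ := htX ⟨x • a, (SubMulAction.mem_ofStabilizer_iff G a).2 hxa⟩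
      ⟨y • a, (SubMulAction.mem_ofStabilizer_iff G a).2 hya⟩
    have hh' : (h : G) • x • a = y • a := congrArg Subtype.val hh
    refine ⟨h, ?_⟩
    have e1 : y⁻¹ * (h * x * (h : G)⁻¹) ∈ D := mul_mem (inv_mem hy) (hDn.conj_mem x hx h)
    have e2 : (h : G)⁻¹ • a = a := by
      rw [inv_smul_eq_iff]; exact h.2.symm
    have e3 : (y⁻¹ * (h * x * (h : G)⁻¹)) • a = a := by
      rw [mul_smul, mul_smul, mul_smul, e2, hh', inv_smul_smul]
    have e4 := h2 _ e1 e3
    rw [inv_mul_eq_one] at e4
    exact e4
  -- choose a prime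
  obtain ⟨p, hp, hpd⟩ := Nat.exists_prime_and_dvd (n := Nat.card Ω) (by omega)
  rw [← hcardD] at hpd
  have : Fact p.Prime := ⟨hp⟩
  obtain ⟨x, hx⟩ := exists_prime_orderOf_dvd_card' (G := D) p hpd
  have hx1 : (x : G) ≠ 1 := by
    intro h
    have : x = 1 := Subtype.ext h
    rw [this, orderOf_one] at hx
    exact hp.one_lt.ne hx
  have hP : IsPGroup p D := by
    intro y
    refine ⟨1, ?_⟩
    rw [pow_one]
    by_cases hy : y = 1
    · rw [hy, one_pow]
    · have hy1 : (y : G) ≠ 1 := fun h => hy (Subtype.ext h)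
      obtain ⟨h, hh⟩ := hconj x y x.2 y.2 hx1 hy1
      apply Subtype.ext
      rw [Subgroup.coe_pow, Subgroup.coe_one, hh, conj_pow]
      have : (x : G) ^ p = 1 := by
        have := pow_orderOf_eq_one x
        rw [hx] at this
        exact congrArg Subtype.val this
      rw [this]; group
  obtain ⟨k, hk⟩ := (IsPGroup.iff_card).1 hP
  rw [← hcardD, hk]
  have hk0 : k ≠ 0 := by
    rintro rfl
    rw [pow_zero] at hk
    omega
  exact hp.isPrimePow.pow hk0

end Cfsg.Agent.H393
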