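import Mathlib
import Cfsg.Agent.H393.Derange
import Cfsg.Agent.H393.DerangeIdx
import Cfsg.Agent.Characters.CCValues
import Cfsg.Agent.S0190
import Cfsg.Agent.S0157
import Cfsg.Agent.S0007
import Cfsg.Agent.H895.Affine
set_option linter.all false

-- part: H393/BcgrA
section
/-!
# Transitive groups with a normal subgroup outside which every element has exactly one fixed point

General lemmas and the imprimitive case.
-/

set_option autoImplicit false

namespace Cfsg.Agent.H393.Bcgr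

open MulAction

/-- If `G` and `N` are transitive and the elements outside `N` fix at most one point, they fix exactly
one point. -/
theorem fix_eq_one {G X : Type*} [Group G] [Finite G] [MulAction G X] [Finite X] [Nonempty X]
    (N : Subgroup G) (hN : IsPretransitive N X) (h : ∀ g : G, g ∉ N → Nat.card (fixedBy X g) ≤ 1) :
    ∀ g : G, g ∉ N → Nat.card (fixedBy X g) = 1 := by
  classical
  have : Fintype G := Fintype.ofFinite G
  have hG : IsPretransitive G X := by
    refine ⟨fun x y => ?_⟩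
    obtain ⟨n, hn⟩ := hN.exists_smul_eq x y
    exact ⟨n, hn⟩
  have h1 := burnside_natCard G X
  rw [card_orbits_eq_one G X hG, one_mul] at h1
  have h2 := burnside_subgroup G X N
  rw [card_orbits_eq_one N X hN, one_mul] at h2
  have h3 := Finset.sum_filter_add_sum_filter_not (Finset.univ : Finset G) (fun g => g ∈ N)
    (fun g => Nat.card (fixedBy X g))
  have h4 := Finset.card_filter_add_card_filter_not (s := (Finset.univ : Finset G)) (fun g => g ∈ N)
  have h5 : (Finset.univ.filter (fun g : G => g ∈ N)).card = Nat.card N := by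
    rw [Nat.card_eq_fintype_card]
    exact (Fintype.card_subtype _).symm
  have h6 : (Finset.univ : Finset G).card = Nat.card G := by
    rw [Nat.card_eq_fintype_card]; rfl
  have hle : ∀ g ∈ Finset.univ.filter (fun g : G => ¬ g ∈ N), Nat.card (fixedBy X g) ≤ 1 := by
    intro g hg
    exact h g (Finset.mem_filter.1 hg).2
  have h8 : ∑ g ∈ Finset.univ.filter (fun g : G => ¬ g ∈ N), Nat.card (fixedBy X g) =
      ∑ g ∈ Finset.univ.filter (fun g : G => ¬ g ∈ N), 1 := by
    rw [← Finset.card_eq_sum_ones]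
    omega
  have h9 := (Finset.sum_eq_sum_iff_of_le hle).1 h8
  intro g hg
  exact h9 g (by simp [hg])

/-- the elements outside `N` having their fixed point in the orbit of `x` -/
def outside {G X : Type*} [Group G] [MulAction G X] (N : Subgroup G) (x : X) : Set G :=
  {g | g ∉ N ∧ ∃ y ∈ orbit G x, g • y = y}

open Classical in
/-- Counting: `|outside| = |G| - t |N|` where `t` is the number of `N`-orbits in the orbit. -/
theorem card_outside {G X : Type*} [Group G] [Finite G] [MulAction G X] [Finite X]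
    (N : Subgroup G) (h : ∀ g : G, g ∉ N → Nat.card (fixedBy X g) = 1) (x : X) :
    (outside N x).ncard + Nat.card (orbitRel.Quotient N (orbit G x)) * Nat.card N = Nat.card G := by
  have : Fintype G := Fintype.ofFinite G
  have hne : Nonempty (orbit G x) := ⟨⟨x, mem_orbit_self x⟩⟩
  have h1 := burnside_natCard G (orbit G x)
  rw [card_orbits_eq_one G (orbit G x) inferInstance, one_mul] at h1
  have h2 := burnside_subgroup G (orbit G x) N
  have h3 := Finset.sum_filter_add_sum_filter_not (Finset.univ : Finset G) (fun g => g ∈ N)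
    (fun g => Nat.card (fixedBy (orbit G x) g))
  have h4 : ∑ g ∈ Finset.univ.filter (fun g : G => ¬ g ∈ N), Nat.card (fixedBy (orbit G x) g) =
      ∑ g ∈ Finset.univ.filter (fun g : G => ¬ g ∈ N), if g ∈ outside N x then 1 else 0 := by
    refine Finset.sum_congr rfl fun g hg => ?_
    have hgN := (Finset.mem_filter.1 hg).2
    have h5 := h g hgN
    rw [Nat.card_eq_one_iff_unique] at h5
    obtain ⟨h5, ⟨z⟩⟩ := h5
    split_ifs with hgo
    · obtain ⟨-, y, hy, hgy⟩ := hgo
      rw [Nat.card_eq_one_iff_unique]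
      refine ⟨⟨fun a b => ?_⟩, ⟨⟨⟨y, hy⟩, Subtype.ext hgy⟩⟩⟩
      have ha : g • (a.1 : X) = a.1 := congrArg Subtype.val a.2
      have hb : g • (b.1 : X) = b.1 := congrArg Subtype.val b.2
      have h6 : (⟨(a.1 : X), ha⟩ : fixedBy X g) = ⟨(b.1 : X), hb⟩ := Subsingleton.elim _ _
      exact Subtype.ext (Subtype.ext (congrArg (fun q : fixedBy X g => (q : X)) h6))
    · rw [Finite.card_eq_zero_iff]
      refine ⟨fun a => hgo ⟨hgN, a.1, a.1.2, congrArg Subtype.val a.2⟩⟩
  have h5 : ∑ g ∈ Finset.univ.filter (fun g : G => ¬ g ∈ N), (if g ∈ outside N x then 1 else 0) =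
      (outside N x).ncard := by
    rw [Finset.sum_boole, Nat.cast_id, Set.ncard_eq_toFinset_card']
    congr 1
    ext g
    simp only [Finset.mem_filter, Finset.mem_univ, true_and, Set.mem_toFinset]
    exact ⟨fun h => h.2, fun h => ⟨h.1, h⟩⟩
  rw [h4, h5] at h3
  omega

open Classical in
/-- If an element outside `N` has its fixed point in the orbit of `x`, then at least half of the
elements of `G` have. -/
theorem two_mul_card_outside {G X : Type*} [Group G] [Finite G] [MulAction G X] [Finite X]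
    (N : Subgroup G) [hN : N.Normal] (h : ∀ g : G, g ∉ N → Nat.card (fixedBy X g) = 1) (x : X)
    (hx : (outside N x).Nonempty) : Nat.card G ≤ 2 * (outside N x).ncard := by
  have : Fintype G := Fintype.ofFinite G
  have : Fintype (orbit G x) := Fintype.ofFinite _
  obtain ⟨h₀, hh₀, y₀, hy₀, hfix⟩ := hx
  -- for each point of the orbit an element outside `N` fixing it
  have hex : ∀ y : orbit G x, ∃ k : G, k ∉ N ∧ k • y = y := by
    intro y
    obtain ⟨a, ha⟩ := exists_smul_eq G (⟨y₀, hy₀⟩ : orbit G x) y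
    refine ⟨a * h₀ * a⁻¹, fun hc => hh₀ ?_, ?_⟩
    · have := hN.conj_mem _ hc a⁻¹
      have e : a⁻¹ * (a * h₀ * a⁻¹) * a⁻¹⁻¹ = h₀ := by group
      rwa [e] at this
    · rw [mul_smul, mul_smul, ← ha, inv_smul_smul]
      congr 1
      exact Subtype.ext hfix
  choose k hk hky using hex
  have hne : Nonempty (orbit G x) := ⟨⟨x, mem_orbit_self x⟩⟩
  have h1 := burnside_natCard G (orbit G x)
  rw [card_orbits_eq_one G (orbit G x) inferInstance, one_mul] at h1
  have h2 := burnside_subgroup G (orbit G x) N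
  have h0 := card_outside N h x
  -- double counting
  have key : ∀ S : Finset G, ∑ g ∈ S, Nat.card (fixedBy (orbit G x) g) =
      ∑ y : orbit G x, (S.filter (fun g => g • y = y)).card := by
    intro S
    have e1 : ∀ g : G, Nat.card (fixedBy (orbit G x) g) =
        ∑ y : orbit G x, if g • y = y then 1 else 0 := by
      intro g
      rw [Finset.sum_boole, Nat.cast_id, Nat.card_eq_fintype_card, ← Fintype.card_subtype]
      exact Fintype.card_congr (Equiv.refl _)
    rw [Finset.sum_congr rfl (fun g _ => e1 g), Finset.sum_comm]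
    refine Finset.sum_congr rfl fun y _ => ?_
    rw [Finset.sum_boole, Nat.cast_id]
  have h3 := Finset.sum_filter_add_sum_filter_not (Finset.univ : Finset G) (fun g => g ∈ N)
    (fun g => Nat.card (fixedBy (orbit G x) g))
  have h4 : ∑ g ∈ Finset.univ.filter (fun g : G => g ∈ N), Nat.card (fixedBy (orbit G x) g) ≤
      ∑ g ∈ Finset.univ.filter (fun g : G => ¬ g ∈ N), Nat.card (fixedBy (orbit G x) g) := by
    rw [key, key]
    refine Finset.sum_le_sum fun y _ => ?_
    refine Finset.card_le_card_of_injOn (fun g => k y * g) ?_ ?_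
    · intro g hg
      simp only [Finset.coe_filter, Finset.mem_filter, Finset.mem_univ, true_and,
        Set.mem_setOf_eq] at hg ⊢
      refine ⟨fun hc => hk y ?_, ?_⟩
      · have := N.mul_mem hc (N.inv_mem hg.1)
        rwa [mul_inv_cancel_right] at this
      · rw [mul_smul, hg.2, hky]
    · intro a _ b _ hab
      exact mul_left_cancel hab
  omega

/-- There is an `N`-orbit which is invariant under `G`. -/
theorem exists_inv_orbit {G X : Type*} [Group G] [Finite G] [MulAction G X] [Finite X] [Nonempty X]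
    (N : Subgroup G) [hN : N.Normal] (h : ∀ g : G, g ∉ N → Nat.card (fixedBy X g) = 1) :
    ∃ x : X, ∀ g : G, ∃ d ∈ N, g • x = d • x := by
  classical
  by_cases hNt : N = ⊤
  · obtain ⟨x⟩ := ‹Nonempty X›
    exact ⟨x, fun g => ⟨g, by rw [hNt]; trivial, rfl⟩⟩
  obtain ⟨g₀, hg₀⟩ : ∃ g₀ : G, g₀ ∉ N := by
    by_contra hc
    push Not at hc
    exact hNt ((Subgroup.eq_top_iff' N).2 hc)
  have hfix : ∀ g : G, g ∉ N → ∃ y : X, g • y = y := by
    intro g hg
    have h5 := h g hg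
    rw [Nat.card_eq_one_iff_unique] at h5
    obtain ⟨-, ⟨z⟩⟩ := h5
    exact ⟨z.1, z.2⟩
  have huniq : ∀ g : G, g ∉ N → ∀ y z : X, g • y = y → g • z = z → y = z := by
    intro g hg y z hy hz
    have h5 := h g hg
    rw [Nat.card_eq_one_iff_unique] at h5
    obtain ⟨h5, -⟩ := h5
    have h6 : (⟨y, hy⟩ : fixedBy X g) = ⟨z, hz⟩ := Subsingleton.elim _ _
    exact congrArg Subtype.val h6
  obtain ⟨x, hx⟩ := hfix g₀ hg₀
  have hx0 : (outside N x).Nonempty := ⟨g₀, hg₀, x, mem_orbit_self x, hx⟩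
  have hc0 := two_mul_card_outside N h x hx0
  have hNc : ((N : Set G)ᶜ).ncard + Nat.card N = Nat.card G := by
    have := Set.ncard_add_ncard_compl (N : Set G)
    rw [add_comm, ← this]
    congr 1
  have hNpos : 0 < Nat.card N := Nat.card_pos
  -- all elements outside `N` have their fixed point in this orbit
  have hall : ∀ g : G, g ∉ N → g ∈ outside N x := by
    intro g hg
    by_contra hgo
    obtain ⟨y, hy⟩ := hfix g hg
    have hyx : y ∉ orbit G x := fun hc => hgo ⟨hg, y, hc, hy⟩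
    have hc1 := two_mul_card_outside N h y ⟨g, hg, y, mem_orbit_self y, hy⟩
    have hdis : Disjoint (outside N x) (outside N y) := by
      rw [Set.disjoint_left]
      rintro a ⟨ha, z, hz, haz⟩ ⟨-, w, hw, haw⟩
      have hzw := huniq a ha z w haz haw
      apply hyx
      rw [hzw] at hz
      have h1 : orbit G w = orbit G y := orbit_eq_iff.2 hw
      have h2 : orbit G w = orbit G x := orbit_eq_iff.2 hz
      rw [← h2, h1]
      exact mem_orbit_self y
    have hsub : outside N x ∪ outside N y ⊆ (N : Set G)ᶜ := by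
      rintro a (ha | ha)
      · exact ha.1
      · exact ha.1
    have h1 := Set.ncard_le_ncard hsub (Set.toFinite _)
    rw [Set.ncard_union_eq hdis (Set.toFinite _) (Set.toFinite _)] at h1
    omega
  have heq : outside N x = (N : Set G)ᶜ := by
    ext g
    exact ⟨fun hg => hg.1, fun hg => hall g hg⟩
  have h2 := card_outside N h x
  rw [heq] at h2
  have h3 : Nat.card (orbitRel.Quotient N (orbit G x)) * Nat.card N = 1 * Nat.card N := by omega
  have h4 := Nat.eq_of_mul_eq_mul_right hNpos h3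
  have h5 := pretransitive_of_card_orbits_eq_one _ _ h4
  refine ⟨x, fun g => ?_⟩
  obtain ⟨d, hd⟩ := h5.exists_smul_eq ⟨x, mem_orbit_self x⟩ ⟨g • x, mem_orbit x g⟩
  exact ⟨d, d.2, (congrArg Subtype.val hd).symm⟩

/-- For `G` transitive, `N` is transitive. -/
theorem isPretransitive_normal {G X : Type*} [Group G] [Finite G] [MulAction G X] [Finite X]
    [Nonempty X] (hG : IsPretransitive G X)
    (N : Subgroup G) [hN : N.Normal] (h : ∀ g : G, g ∉ N → Nat.card (fixedBy X g) = 1) :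
    IsPretransitive N X := by
  obtain ⟨x, hx⟩ := exists_inv_orbit N h
  have key : ∀ y : X, ∃ d : N, d • x = y := by
    intro y
    obtain ⟨g, rfl⟩ := hG.exists_smul_eq x y
    obtain ⟨d, hd, hdx⟩ := hx g
    exact ⟨⟨d, hd⟩, hdx.symm⟩
  refine ⟨fun y z => ?_⟩
  obtain ⟨d, hd⟩ := key y
  obtain ⟨d', hd'⟩ := key z
  refine ⟨d' * d⁻¹, ?_⟩
  rw [mul_smul, ← hd, inv_smul_smul, hd']

theorem two_fixed {G X : Type*} [Group G] [MulAction G X]
    {N : Subgroup G} (h : ∀ g : G, g ∉ N → Nat.card (fixedBy X g) = 1) {g : G} {y z : X}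
    (hyz : y ≠ z) (hy : g • y = y) (hz : g • z = z) : g ∈ N := by
  by_contra hg
  have h5 := h g hg
  rw [Nat.card_eq_one_iff_unique] at h5
  obtain ⟨h5, -⟩ := h5
  have h6 : (⟨y, hy⟩ : fixedBy X g) = ⟨z, hz⟩ := Subsingleton.elim _ _
  exact hyz (congrArg Subtype.val h6)

/-- Let `Y ≤ G_x` with `Y N = G`, and let `T` be a `Y`-invariant set containing `x`.  Then the index
of `N` divides `|T| - 1`. -/
theorem index_dvd_of_invariant {G X : Type*} [Group G] [Finite G] [MulAction G X] [Finite X]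
    (N : Subgroup G) [hN : N.Normal] (h : ∀ g : G, g ∉ N → Nat.card (fixedBy X g) = 1) (x : X)
    (Y : Subgroup G) (hYx : ∀ g ∈ Y, g • x = x) (hYN : ∀ g : G, ∃ d ∈ N, d * g ∈ Y)
    (T : Set X) (hxT : x ∈ T) (hT : ∀ g ∈ Y, ∀ y ∈ T, g • y ∈ T) : N.index ∣ T.ncard - 1 := by
  classical
  let Z : SubMulAction Y X :=
    { carrier := T \ {x}
      smul_mem' := by
        rintro g y ⟨hy, hyx⟩
        refine ⟨hT g g.2 y hy, fun hc => hyx ?_⟩
        have h1 : (g : G) • y = x := hc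
        have h2 : (g : G) • x = x := hYx g g.2
        rw [← h2] at h1
        exact (MulAction.injective (g : G)) h1 }
  have hidx : N.index = (N.subgroupOf Y).index := by
    have h1 : N ⊔ Y = ⊤ := by
      rw [Subgroup.eq_top_iff']
      intro g
      obtain ⟨d, hd, hdg⟩ := hYN g
      have e : g = d⁻¹ * (d * g) := by group
      rw [e]
      exact mul_mem (Subgroup.mem_sup_left (inv_mem hd)) (Subgroup.mem_sup_right hdg)
    have h2 := Subgroup.relIndex_sup_left Y N
    rw [h1, Subgroup.relIndex_top_right] at h2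
    exact h2
  have hcard : Nat.card Z = T.ncard - 1 := by
    have h1 : Nat.card Z = (T \ {x}).ncard := Nat.card_coe_set_eq _
    rw [h1, Set.ncard_sdiff_singleton_of_mem hxT]
  rw [hidx, ← hcard]
  refine index_dvd_card_of_stabilizer_le (N.subgroupOf Y) ?_
  intro z g hg
  rw [Subgroup.mem_subgroupOf]
  have h1 : (g : G) • (z : X) = z := congrArg Subtype.val hg
  exact two_fixed h (fun hc => z.2.2 hc) h1 (hYx g g.2)

open scoped Pointwise in
/-- **The imprimitive case.** -/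
theorem imprimitive_bound {G X : Type*} [Group G] [Finite G] [MulAction G X] [Finite X]
    (hG : IsPretransitive G X) (himp : ¬ IsPreprimitive G X)
    (N : Subgroup G) [hN : N.Normal] (h : ∀ g : G, g ∉ N → Nat.card (fixedBy X g) = 1) :
    (N.index + 1) ^ 2 ≤ Nat.card X := by
  classical
  obtain ⟨B, hB, hnt⟩ : ∃ B : Set X, IsBlock G B ∧ ¬ IsTrivialBlock B := by
    by_contra hc
    push Not at hc
    exact himp ⟨fun {B} hB => hc B hB⟩
  rw [IsTrivialBlock, not_or, Set.not_subsingleton_iff] at hnt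
  obtain ⟨⟨x, hx, y, hy, hxy⟩, hBu⟩ := hnt
  have hne : Nonempty X := ⟨x⟩
  have hNt := isPretransitive_normal hG N h
  have hYN : ∀ g : G, ∃ d ∈ N, d * g ∈ stabilizer G x := by
    intro g
    obtain ⟨d, hd⟩ := hNt.exists_smul_eq (g • x) x
    refine ⟨d, d.2, ?_⟩
    rw [mem_stabilizer_iff, mul_smul]
    exact hd
  have h1 : N.index ∣ B.ncard - 1 := by
    refine index_dvd_of_invariant N h x (stabilizer G x) (fun g hg => hg) hYN B hx ?_
    intro g hg z hz
    have h2 : g • B = B := hB.smul_eq_of_mem hx (by rw [mem_stabilizer_iff.1 hg]; exact hx)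
    rw [← h2]
    exact Set.smul_mem_smul_set hz
  have h2 : N.index ∣ (Set.univ : Set X).ncard - 1 :=
    index_dvd_of_invariant N h x (stabilizer G x) (fun g hg => hg) hYN Set.univ (Set.mem_univ _)
      (fun _ _ _ _ => Set.mem_univ _)
  rw [Set.ncard_univ] at h2
  have h3 := hB.ncard_block_mul_ncard_orbit_eq ⟨x, hx⟩
  have hk : 2 ≤ B.ncard := by
    have : 1 < B.ncard := (Set.one_lt_ncard (Set.toFinite _)).2 ⟨x, hx, y, hy, hxy⟩
    omega
  have hm : 2 ≤ (orbit G B).ncard := by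
    by_contra hc
    push Not at hc
    have h4 : B.ncard < Nat.card X := by
      rw [← Set.ncard_univ]
      exact Set.ncard_lt_ncard (Set.ssubset_univ_iff.2 hBu) (Set.toFinite _)
    have : (orbit G B).ncard = 0 ∨ (orbit G B).ncard = 1 := by omega
    rcases this with h5 | h5
    · rw [h5, mul_zero] at h3
      have : 0 < Nat.card X := Nat.card_pos
      omega
    · rw [h5, mul_one] at h3
      omega
  obtain ⟨k, hk'⟩ : ∃ k, B.ncard = k + 1 := ⟨B.ncard - 1, by omega⟩
  obtain ⟨m, hm'⟩ : ∃ m, (orbit G B).ncard = m + 1 := ⟨(orbit G B).ncard - 1, by omega⟩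
  rw [hk'] at h1 h3 hk
  rw [hm'] at h3 hm
  rw [← h3] at h2 ⊢
  rw [Nat.add_sub_cancel] at h1
  have h4 : (k + 1) * (m + 1) - 1 = k * (m + 1) + m := by
    have : (k + 1) * (m + 1) = k * (m + 1) + m + 1 := by ring
    omega
  rw [h4] at h2
  have h5 : N.index ∣ m := (Nat.dvd_add_right (h1.mul_right (m + 1))).1 h2
  have h6 := Nat.le_of_dvd (by omega) h1
  have h7 := Nat.le_of_dvd (by omega) h5
  nlinarith

end Cfsg.Agent.H393.Bcgr
end

-- part: H393/BcgrB
section
/-!
# Transitive groups with a normal subgroup outside which every element has exactly one fixed point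

The index is at most `n_p - 1` for every prime divisor `p` of the degree `n`.
-/

set_option autoImplicit false
set_option linter.unusedSectionVars false
set_option linter.unusedVariables false

namespace Cfsg.Agent.H393.Bcgr

open MulAction

theorem pretransitive_of_base {G X : Type*} [Group G] [MulAction G X] (x : X)
    (h : ∀ y : X, ∃ g : G, g • x = y) : IsPretransitive G X := by
  refine ⟨fun y z => ?_⟩
  obtain ⟨g, rfl⟩ := h y
  obtain ⟨k, rfl⟩ := h z
  exact ⟨k * g⁻¹, by rw [mul_smul, inv_smul_smul]⟩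

/-! ### Sylow subgroups of subgroups -/

section Syl

variable {G : Type*} [Group G] [Finite G] {p : ℕ} [hp : Fact p.Prime]

theorem exists_syl (p : ℕ) [hp : Fact p.Prime] (H : Subgroup G) :
    ∃ P : Subgroup G, P ≤ H ∧ IsPGroup p P ∧ ¬ p ∣ P.relIndex H := by
  obtain ⟨Q⟩ : Nonempty (Sylow p H) := inferInstance
  refine ⟨(Q : Subgroup H).map H.subtype, Subgroup.map_subtype_le _, Q.2.map _, ?_⟩
  rw [Subgroup.relIndex, Subgroup.subgroupOf,
    Subgroup.comap_map_eq_self_of_injective H.subtype_injective]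
  exact Q.not_dvd_index

theorem syl_conj {H P Q : Subgroup G} (hPH : P ≤ H)
    (hPi : ¬ p ∣ P.relIndex H) (hQH : Q ≤ H) (hQ : IsPGroup p Q) :
    ∃ h ∈ H, ∀ q ∈ Q, h⁻¹ * q * h ∈ P := by
  have hcard : ¬ p ∣ Nat.card (H ⧸ P.subgroupOf H) := hPi
  have hQ' : IsPGroup p (Q.subgroupOf H) := hQ.comap_of_injective _ H.subtype_injective
  obtain ⟨y, hy⟩ := hQ'.nonempty_fixed_point_of_prime_not_dvd_card (H ⧸ P.subgroupOf H) hcard
  obtain ⟨h, rfl⟩ := QuotientGroup.mk_surjective y
  refine ⟨h, h.2, fun q hq => ?_⟩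
  have h1 := hy ⟨⟨q, hQH hq⟩, Subgroup.mem_subgroupOf.2 hq⟩
  have h2 : (((⟨q, hQH hq⟩ : H) * h : H) : H ⧸ P.subgroupOf H) = (h : H ⧸ P.subgroupOf H) := h1
  rw [eq_comm, QuotientGroup.eq, Subgroup.mem_subgroupOf] at h2
  have h3 : h⁻¹ * (⟨q, hQH hq⟩ * h) = h⁻¹ * ⟨q, hQH hq⟩ * h := by group
  rw [h3] at h2
  exact h2

theorem mem_normalizer_of {P : Subgroup G} {x : G} (h : ∀ n ∈ P, x * n * x⁻¹ ∈ P) :
    x ∈ Subgroup.normalizer (P : Set G) :=
  Subgroup.mem_normalizer_fintype (S := (P : Set G)) h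

/-- A `p`-subgroup containing a Sylow subgroup is equal to it. -/
theorem eq_of_syl {H P Q : Subgroup G} (hPi : ¬ p ∣ P.relIndex H) (hPQ : P ≤ Q) (hQH : Q ≤ H)
    (hQ : IsPGroup p Q) : P = Q := by
  have h1 : P.relIndex Q ∣ Nat.card Q := Subgroup.relIndex_dvd_card _ _
  obtain ⟨k, hk⟩ := (IsPGroup.iff_card).1 hQ
  rw [hk] at h1
  obtain ⟨j, -, hj⟩ := (Nat.dvd_prime_pow hp.out).1 h1
  have h2 : P.relIndex Q * Q.relIndex H = P.relIndex H := Subgroup.relIndex_mul_relIndex P Q H hPQ hQH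
  rcases Nat.eq_zero_or_pos j with h0 | h0
  · rw [h0, pow_zero] at hj
    exact le_antisymm hPQ (Subgroup.relIndex_eq_one.1 hj)
  · exfalso
    apply hPi
    rw [← h2, hj]
    exact (dvd_pow_self p h0.ne').mul_right _

theorem card_mul_relIndex {P Q : Subgroup G} (h : P ≤ Q) : Nat.card P * P.relIndex Q = Nat.card Q := by
  have h1 := (P.subgroupOf Q).card_mul_index
  rw [Nat.card_congr (Subgroup.subgroupOfEquivOfLe h).toEquiv] at h1
  exact h1

end Syl

/-- **Step (1)**: `D.index ≤ n_p - 1`. -/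
theorem step_one {G Ω : Type*} [Group G] [Finite G] [MulAction G Ω] [Finite Ω] [Nonempty Ω]
    (D : Subgroup G) [hDn : D.Normal] (hDt : IsPretransitive D Ω)
    (hD : ∀ g : G, g ∉ D → Nat.card (fixedBy Ω g) = 1) {p : ℕ} (hp : p.Prime)
    (hpn : p ∣ Nat.card Ω) : ∃ b : ℕ, p ^ b ∣ Nat.card Ω ∧ D.index + 1 ≤ p ^ b := by
  classical
  have hpf : Fact p.Prime := ⟨hp⟩
  obtain ⟨x⟩ := id ‹Nonempty Ω›
  have hDt' : ∀ y z : Ω, ∃ d ∈ D, d • y = z := by
    intro y z
    obtain ⟨d, hd⟩ := hDt.exists_smul_eq y z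
    exact ⟨d, d.2, hd⟩
  -- `P₀`
  obtain ⟨P0, hP0D, hP0p, hP0i⟩ := exists_syl p (D ⊓ stabilizer G x)
  obtain ⟨K, hK⟩ : ∃ K : Subgroup G, K = Subgroup.normalizer (P0 : Set G) := ⟨_, rfl⟩
  have hKmem : ∀ k ∈ K, ∀ u ∈ P0, k * u * k⁻¹ ∈ P0 := by
    intro k hk u hu
    rw [hK] at hk
    exact (Subgroup.mem_normalizer_iff.1 hk u).1 hu
  have hKmem' : ∀ k ∈ K, ∀ u ∈ P0, k⁻¹ * u * k ∈ P0 := by
    intro k hk u hu
    have := hKmem k⁻¹ (K.inv_mem hk) u hu
    rwa [inv_inv] at this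
  have hP0K : P0 ≤ K := by rw [hK]; exact Subgroup.le_normalizer
  -- fixed points
  obtain ⟨F, hF⟩ : ∃ F : Set Ω, F = {y | ∀ u ∈ P0, u • y = y} := ⟨_, rfl⟩
  have hmemF : ∀ y, y ∈ F ↔ ∀ u ∈ P0, u • y = y := by intro y; rw [hF]; rfl
  have hxF : x ∈ F := by
    rw [hmemF]
    intro u hu
    exact (Subgroup.mem_inf.1 (hP0D hu)).2
  have hKF : ∀ k ∈ K, ∀ y ∈ F, k • y ∈ F := by
    intro k hk y hy
    rw [hmemF] at hy ⊢
    intro u hu
    have h1 := hy _ (hKmem' k hk u hu)
    rw [mul_smul, mul_smul, inv_smul_eq_iff] at h1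
    exact h1
  -- transitivity of `N_D(P₀)` on `F`
  have htrF : ∀ z ∈ F, ∃ c ∈ D, c ∈ K ∧ c • x = z := by
    intro z hz
    obtain ⟨a, ha, hax⟩ := hDt' x z
    obtain ⟨h, hh, hhc⟩ := syl_conj (H := D ⊓ stabilizer G x) (P := P0)
      (Q := P0.map (MulAut.conj a⁻¹).toMonoidHom) hP0D hP0i (by
        rintro _ ⟨u, hu, rfl⟩
        have h1 := Subgroup.mem_inf.1 (hP0D hu)
        refine Subgroup.mem_inf.2 ⟨hDn.conj_mem u h1.1 a⁻¹, ?_⟩
        rw [mem_stabilizer_iff]
        show (a⁻¹ * u * a⁻¹⁻¹) • x = x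
        rw [inv_inv, mul_smul, mul_smul, hax, (hmemF z).1 hz u hu, inv_smul_eq_iff, hax])
      (hP0p.map _)
    have hh' := Subgroup.mem_inf.1 hh
    refine ⟨a * h, D.mul_mem ha hh'.1, ?_, ?_⟩
    · have h2 : (a * h)⁻¹ ∈ K := by
        rw [hK]
        apply mem_normalizer_of
        intro u hu
        have h3 := hhc _ ⟨u, hu, rfl⟩
        have e : h⁻¹ * (MulAut.conj a⁻¹).toMonoidHom u * h = (a * h)⁻¹ * u * (a * h)⁻¹⁻¹ := by
          show h⁻¹ * (a⁻¹ * u * a⁻¹⁻¹) * h = _
          group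
        rwa [e] at h3
      have := K.inv_mem h2
      rwa [inv_inv] at this
    · rw [mul_smul, mem_stabilizer_iff.1 hh'.2, hax]
  -- `P₁`
  obtain ⟨P1, hP1N, hP1p, hP1i⟩ := exists_syl p (D ⊓ K)
  have hP01 : P0 ≤ P1 := by
    obtain ⟨h, hh, hhc⟩ := syl_conj (H := D ⊓ K) (P := P1) (Q := P0) hP1N hP1i
      (le_inf (hP0D.trans inf_le_left) hP0K) hP0p
    intro u hu
    have h1 := hhc _ (hKmem h (Subgroup.mem_inf.1 hh).2 u hu)
    have e : h⁻¹ * (h * u * h⁻¹) * h = u := by group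
    rwa [e] at h1
  obtain ⟨M, hM⟩ : ∃ M : Subgroup G, M = K ⊓ Subgroup.normalizer (P1 : Set G) := ⟨_, rfl⟩
  have hMK : M ≤ K := by rw [hM]; exact inf_le_left
  have hMP1 : ∀ g ∈ M, ∀ u ∈ P1, g * u * g⁻¹ ∈ P1 := by
    intro g hg u hu
    rw [hM] at hg
    exact (Subgroup.mem_normalizer_iff.1 (Subgroup.mem_inf.1 hg).2 u).1 hu
  -- Frattini
  have hFr : ∀ g : G, ∃ d ∈ D, d * g ∈ M := by
    intro g
    obtain ⟨d, hd, hdx⟩ := hDt' (g • x) x
    have ht : (d * g) • x = x := by rw [mul_smul]; exact hdx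
    obtain ⟨h, hh, hhc⟩ := syl_conj (H := D ⊓ stabilizer G x) (P := P0)
      (Q := P0.map (MulAut.conj (d * g)).toMonoidHom) hP0D hP0i (by
        rintro _ ⟨u, hu, rfl⟩
        have h1 := Subgroup.mem_inf.1 (hP0D hu)
        refine Subgroup.mem_inf.2 ⟨hDn.conj_mem u h1.1 _, ?_⟩
        rw [mem_stabilizer_iff]
        show (d * g * u * (d * g)⁻¹) • x = x
        have h2 : (d * g)⁻¹ • x = x := by rw [inv_smul_eq_iff, ht]
        rw [mul_smul, h2, mul_smul, mem_stabilizer_iff.1 h1.2, ht])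
      (hP0p.map _)
    have hh' := Subgroup.mem_inf.1 hh
    have ha : h⁻¹ * (d * g) ∈ K := by
      rw [hK]
      apply mem_normalizer_of
      intro u hu
      have h3 := hhc _ ⟨u, hu, rfl⟩
      have e : h⁻¹ * (MulAut.conj (d * g)).toMonoidHom u * h =
          h⁻¹ * (d * g) * u * (h⁻¹ * (d * g))⁻¹ := by
        show h⁻¹ * (d * g * u * (d * g)⁻¹) * h = _
        group
      rwa [e] at h3
    obtain ⟨t, ht'⟩ : ∃ t, t = h⁻¹ * (d * g) := ⟨_, rfl⟩
    rw [← ht'] at ha
    obtain ⟨h', hh', hhc'⟩ := syl_conj (H := D ⊓ K) (P := P1)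
      (Q := P1.map (MulAut.conj t).toMonoidHom) hP1N hP1i (by
        rintro _ ⟨u, hu, rfl⟩
        have h1 := Subgroup.mem_inf.1 (hP1N hu)
        refine Subgroup.mem_inf.2 ⟨hDn.conj_mem u h1.1 _, ?_⟩
        exact K.mul_mem (K.mul_mem ha h1.2) (K.inv_mem ha))
      (hP1p.map _)
    have hh'' := Subgroup.mem_inf.1 hh'
    refine ⟨h'⁻¹ * (h⁻¹ * d), D.mul_mem (D.inv_mem hh''.1) (D.mul_mem (D.inv_mem
      (Subgroup.mem_inf.1 hh).1) hd), ?_⟩
    have e0 : h'⁻¹ * (h⁻¹ * d) * g = h'⁻¹ * t := by rw [ht']; group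
    rw [e0, hM]
    refine Subgroup.mem_inf.2 ⟨K.mul_mem (K.inv_mem hh''.2) ha, ?_⟩
    apply mem_normalizer_of
    intro u hu
    have h3 := hhc' _ ⟨u, hu, rfl⟩
    have e : h'⁻¹ * (MulAut.conj t).toMonoidHom u * h' = h'⁻¹ * t * u * (h'⁻¹ * t)⁻¹ := by
      show h'⁻¹ * (t * u * t⁻¹) * h' = _
      group
    rwa [e] at h3
  -- the action of `K` on `F`
  let ZK : SubMulAction K Ω :=
    { carrier := F
      smul_mem' := fun k y hy => hKF k k.2 y hy }
  let ZM : SubMulAction M Ω :=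
    { carrier := F
      smul_mem' := fun k y hy => hKF k (hMK k.2) y hy }
  have huniq : ∀ g : G, g ∉ D → ∀ y z : Ω, g • y = y → g • z = z → y = z := by
    intro g hg y z hy hz
    by_contra hyz
    exact hg (two_fixed hD hyz hy hz)
  have hneK : Nonempty ZK := ⟨⟨x, hxF⟩⟩
  have hneM : Nonempty ZM := ⟨⟨x, hxF⟩⟩
  have hfixK : ∀ g ∈ K, g ∉ D → ∃ y ∈ F, g • y = y := by
    intro g hgK hgD
    have h1 : IsPretransitive (D.subgroupOf K) ZK := by
      refine pretransitive_of_base (⟨x, hxF⟩ : ZK) fun z => ?_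
      obtain ⟨c, hcD, hcK, hcz⟩ := htrF z.1 z.2
      exact ⟨⟨⟨c, hcK⟩, Subgroup.mem_subgroupOf.2 hcD⟩, Subtype.ext hcz⟩
    have h2 := fix_eq_one (D.subgroupOf K) h1 (fun k hk => by
      rw [Finite.card_le_one_iff_subsingleton]
      refine ⟨fun y z => ?_⟩
      have hk' : (k : G) ∉ D := fun hc => hk (Subgroup.mem_subgroupOf.2 hc)
      exact Subtype.ext (Subtype.ext (huniq k hk' y.1 z.1 (congrArg Subtype.val y.2)
        (congrArg Subtype.val z.2)))) ⟨g, hgK⟩ (fun hc => hgD (Subgroup.mem_subgroupOf.1 hc))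
    rw [Nat.card_eq_one_iff_unique] at h2
    obtain ⟨-, ⟨y⟩⟩ := h2
    exact ⟨y.1, y.1.2, congrArg Subtype.val y.2⟩
  have hDMn : (D.subgroupOf M).Normal := hDn.comap _
  have hfixM : ∀ g : M, g ∉ D.subgroupOf M → Nat.card (fixedBy ZM g) = 1 := by
    intro g hg
    have hg' : (g : G) ∉ D := fun hc => hg (Subgroup.mem_subgroupOf.2 hc)
    obtain ⟨y, hyF, hy⟩ := hfixK g (hMK g.2) hg'
    rw [Nat.card_eq_one_iff_unique]
    refine ⟨⟨fun a b => ?_⟩, ⟨⟨⟨y, hyF⟩, Subtype.ext hy⟩⟩⟩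
    exact Subtype.ext (Subtype.ext (huniq g hg' a.1 b.1 (congrArg Subtype.val a.2)
      (congrArg Subtype.val b.2)))
  obtain ⟨y, hy⟩ := exists_inv_orbit (D.subgroupOf M) hfixM
  have hyF : (y : Ω) ∈ F := y.2
  -- the group `Y`
  have hYN : ∀ g : G, ∃ d ∈ D, d * g ∈ M ⊓ stabilizer G (y : Ω) := by
    intro g
    obtain ⟨d, hd, hdg⟩ := hFr g
    obtain ⟨d', hd', hdy⟩ := hy ⟨d * g, hdg⟩
    have h1 : (d * g) • (y : Ω) = (d' : G) • (y : Ω) := congrArg Subtype.val hdy
    refine ⟨(d' : G)⁻¹ * d, D.mul_mem (D.inv_mem (Subgroup.mem_subgroupOf.1 hd')) hd, ?_⟩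
    rw [mul_assoc]
    refine Subgroup.mem_inf.2 ⟨M.mul_mem (M.inv_mem d'.2) hdg, ?_⟩
    rw [mem_stabilizer_iff, mul_smul, h1, inv_smul_smul]
  obtain ⟨T, hT⟩ : ∃ T : Set Ω, T = {z | ∃ u ∈ P1, u • (y : Ω) = z} := ⟨_, rfl⟩
  have hyT : (y : Ω) ∈ T := by rw [hT]; exact ⟨1, P1.one_mem, one_smul _ _⟩
  have hTinv : ∀ g ∈ M ⊓ stabilizer G (y : Ω), ∀ z ∈ T, g • z ∈ T := by
    rintro g hg z hz
    rw [hT] at hz ⊢
    obtain ⟨u, hu, rfl⟩ := hz
    have hg' := Subgroup.mem_inf.1 hg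
    refine ⟨g * u * g⁻¹, hMP1 g hg'.1 u hu, ?_⟩
    have h1 : g • (y : Ω) = y := hg'.2
    have h2 : g⁻¹ • (y : Ω) = y := by rw [inv_smul_eq_iff, h1]
    rw [mul_smul, h2, mul_smul]
  have hdvd : D.index ∣ T.ncard - 1 :=
    index_dvd_of_invariant D hD (y : Ω) (M ⊓ stabilizer G (y : Ω))
      (fun g hg => (Subgroup.mem_inf.1 hg).2) hYN T hyT hTinv
  -- the length of the orbit
  have hTorb : T = orbit P1 (y : Ω) := by
    rw [hT]
    ext z
    constructor
    · rintro ⟨u, hu, huz⟩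
      exact ⟨⟨u, hu⟩, huz⟩
    · rintro ⟨u, huz⟩
      exact ⟨u, u.2, huz⟩
  obtain ⟨b, hb⟩ := hP1p.card_orbit (y : Ω)
  have hTb : T.ncard = p ^ b := by
    rw [hTorb, ← hb, Nat.card_coe_set_eq]
  -- the stabiliser of `y` in `D`
  have hcardst : Nat.card (D ⊓ stabilizer G (y : Ω) : Subgroup G) =
      Nat.card (D ⊓ stabilizer G x : Subgroup G) := by
    have key : ∀ z : Ω, Nat.card (D ⊓ stabilizer G z : Subgroup G) * Nat.card Ω = Nat.card D := by
      intro z
      have h1 := (stabilizer D z).card_mul_index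
      rw [index_stabilizer_of_transitive] at h1
      rw [← h1]
      congr 1
      refine Nat.card_congr
        { toFun := fun g => ⟨⟨g.1, (Subgroup.mem_inf.1 g.2).1⟩, (Subgroup.mem_inf.1 g.2).2⟩
          invFun := fun g => ⟨g.1.1, Subgroup.mem_inf.2 ⟨g.1.2, g.2⟩⟩
          left_inv := fun g => rfl
          right_inv := fun g => rfl }
    have h1 := key y
    rw [← key x] at h1
    exact Nat.eq_of_mul_eq_mul_right Nat.card_pos h1
  have hP0Dy : P0 ≤ D ⊓ stabilizer G (y : Ω) := by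
    intro u hu
    exact Subgroup.mem_inf.2 ⟨(Subgroup.mem_inf.1 (hP0D hu)).1, (hmemF _).1 hyF u hu⟩
  have hP0i' : ¬ p ∣ P0.relIndex (D ⊓ stabilizer G (y : Ω)) := by
    have h1 := card_mul_relIndex hP0Dy
    have h2 := card_mul_relIndex hP0D
    rw [hcardst, ← h2] at h1
    rw [Nat.eq_of_mul_eq_mul_left Nat.card_pos h1]
    exact hP0i
  have hst : P0 = P1 ⊓ stabilizer G (y : Ω) := by
    refine eq_of_syl hP0i' ?_ ?_ (hP1p.to_le inf_le_left)
    · exact le_inf hP01 (hP0Dy.trans inf_le_right)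
    · exact le_inf (inf_le_left.trans (hP1N.trans inf_le_left)) inf_le_right
  have hcardP1 : p ^ b * Nat.card P0 = Nat.card P1 := by
    have h1 := (stabilizer P1 (y : Ω)).card_mul_index
    rw [index_stabilizer, ← Nat.card_coe_set_eq, hb, mul_comm] at h1
    rw [← h1]
    congr 1
    conv_lhs => rw [hst]
    refine Nat.card_congr
      { toFun := fun g => ⟨⟨g.1, (Subgroup.mem_inf.1 g.2).1⟩, (Subgroup.mem_inf.1 g.2).2⟩
        invFun := fun g => ⟨g.1.1, Subgroup.mem_inf.2 ⟨g.1.2, g.2⟩⟩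
        left_inv := fun g => rfl
        right_inv := fun g => rfl }
  have hcardD : Nat.card P0 * P0.relIndex (D ⊓ stabilizer G x) * Nat.card Ω = Nat.card D := by
    rw [card_mul_relIndex hP0D]
    have h1 := (stabilizer D x).card_mul_index
    rw [index_stabilizer_of_transitive] at h1
    rw [← h1]
    congr 1
    refine Nat.card_congr
      { toFun := fun g => ⟨⟨g.1, (Subgroup.mem_inf.1 g.2).1⟩, (Subgroup.mem_inf.1 g.2).2⟩
        invFun := fun g => ⟨g.1.1, Subgroup.mem_inf.2 ⟨g.1.2, g.2⟩⟩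
        left_inv := fun g => rfl
        right_inv := fun g => rfl }
  have hbn : p ^ b ∣ Nat.card Ω := by
    have h1 : Nat.card P1 ∣ Nat.card D := Subgroup.card_dvd_of_le (hP1N.trans inf_le_left)
    rw [← hcardP1, ← hcardD, mul_comm, mul_assoc] at h1
    have h2 := Nat.dvd_of_mul_dvd_mul_left Nat.card_pos h1
    exact Nat.Coprime.dvd_of_dvd_mul_left
      (Nat.Coprime.pow_left b ((Nat.Prime.coprime_iff_not_dvd hp).2 hP0i)) h2
  refine ⟨b, hbn, ?_⟩
  -- `b ≥ 1`
  have hb0 : b ≠ 0 := by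
    rintro rfl
    rw [pow_zero, one_mul] at hcardP1
    have h1 : P0 = P1 := Subgroup.eq_of_le_of_card_ge hP01 (by rw [hcardP1])
    rw [← h1] at hP1i
    -- `p` divides `|F|`
    have h2 : Nat.card ZK = (stabilizer (D.subgroupOf K) (⟨x, hxF⟩ : ZK)).index := by
      have h3 : IsPretransitive (D.subgroupOf K) ZK := by
        refine pretransitive_of_base (⟨x, hxF⟩ : ZK) fun z => ?_
        obtain ⟨c, hcD, hcK, hcz⟩ := htrF z.1 z.2
        exact ⟨⟨⟨c, hcK⟩, Subgroup.mem_subgroupOf.2 hcD⟩, Subtype.ext hcz⟩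
      rw [index_stabilizer_of_transitive]
    have h4 := hP0p.card_modEq_card_fixedPoints Ω
    have h5 : Nat.card (fixedPoints P0 Ω) = Nat.card ZK := by
      refine Nat.card_congr (Equiv.subtypeEquivRight fun z => ?_)
      show z ∈ fixedPoints P0 Ω ↔ z ∈ F
      rw [hmemF]
      exact ⟨fun h u hu => h ⟨u, hu⟩, fun h u => h u u.2⟩
    have h6 : p ∣ Nat.card ZK := by
      rw [← h5]
      exact (Nat.ModEq.dvd_iff h4 dvd_rfl).1 hpn
    apply hP1i
    refine h6.trans ?_
    rw [h2, Subgroup.relIndex]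
    -- compare indices
    have h7 : Nat.card (D.subgroupOf K) = Nat.card (D ⊓ K : Subgroup G) := by
      refine Nat.card_congr
        { toFun := fun g => ⟨g.1.1, Subgroup.mem_inf.2 ⟨g.2, g.1.2⟩⟩
          invFun := fun g => ⟨⟨g.1, (Subgroup.mem_inf.1 g.2).2⟩, (Subgroup.mem_inf.1 g.2).1⟩
          left_inv := fun g => rfl
          right_inv := fun g => rfl }
    have h8 : Nat.card P0 ∣ Nat.card (stabilizer (D.subgroupOf K) (⟨x, hxF⟩ : ZK)) := by
      refine Subgroup.card_dvd_of_injective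
        (⟨⟨fun u => ⟨⟨⟨u.1, hP0K u.2⟩, (Subgroup.mem_inf.1 (hP0D u.2)).1⟩,
          Subtype.ext ((hmemF x).1 hxF u.1 u.2)⟩, rfl⟩, fun _ _ => rfl⟩ :
          P0 →* stabilizer (D.subgroupOf K) (⟨x, hxF⟩ : ZK)) ?_
      intro u v huv
      have h9 := congrArg (fun w : stabilizer (D.subgroupOf K) (⟨x, hxF⟩ : ZK) => ((w.1.1 : K) : G)) huv
      exact Subtype.ext h9
    have h10 := (stabilizer (D.subgroupOf K) (⟨x, hxF⟩ : ZK)).card_mul_index
    have h11 := card_mul_relIndex (h1 ▸ hP1N : P0 ≤ D ⊓ K)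
    rw [Subgroup.relIndex] at h11
    rw [h7, ← h11] at h10
    obtain ⟨c, hc⟩ := h8
    rw [hc, mul_assoc] at h10
    have h12 := Nat.eq_of_mul_eq_mul_left Nat.card_pos h10
    exact Dvd.intro_left _ h12
  rw [hTb] at hdvd
  have h1 : 2 ≤ p ^ b := by
    calc 2 ≤ p := hp.two_le
      _ = p ^ 1 := (pow_one p).symm
      _ ≤ p ^ b := Nat.pow_le_pow_right hp.pos (by omega)
  have := Nat.le_of_dvd (by omega) hdvd
  omega

end Cfsg.Agent.H393.Bcgr
end

-- part: H393/CCStep
section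
/-!
# Transitive groups with a regular self-centralising abelian subgroup

Let `D` be transitive, not doubly transitive on `Ω`, with a regular abelian subgroup `P` such that
`C_D(z) = P` for all `1 ≠ z ∈ P`; put `m = |N_D(P) : P|`.  If `m ≥ 2` and `(m - 1)^2 < |P|`, then no
non-identity element of `D` fixes two points.
-/

set_option autoImplicit false
set_option linter.unusedSectionVars false

open scoped ComplexConjugate
open Cfsg

namespace Cfsg.Agent.H393.CCStep

open Characters Characters.CCBasic Characters.CCOrbit Characters.CCInduce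
  Characters.CCExceptional Characters.CCValues CharactersDeep.NormalInd

universe u

variable {D : Type u} [Group D] [Fintype D] {A : Subgroup D}

/-- Frobenius reciprocity for differences of characters of `A`. -/
theorem inner_ind_sub [Fintype A] (χ : IrrCharacter D) (l m : IrrCharacter A) :
    classInner (indFun A ((l : A → ℂ) - (m : A → ℂ))) (χ : D → ℂ) =
      (mult χ l : ℂ) - (mult χ m : ℂ) := by
  rw [classInner_indFun A _ _ (Core.isIrr_isClassFunction χ.2), Core.classInner_sub_left,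
    ← Core.classInner_conj_symm, ← Core.classInner_conj_symm (fun a : A => (χ : D → ℂ) a), mult_spec,
    mult_spec, map_intCast, map_intCast]

theorem not_rel_of_mult [Fintype A] {χ : IrrCharacter D} {l m : IrrCharacter A}
    (h : mult χ l ≠ mult χ m) : ¬ Rel A (m : A → ℂ) (l : A → ℂ) := by
  intro hr
  apply h
  have h1 := inner_ind_sub χ l m
  rw [indFun_sub, indFun_eq_of_rel hr, sub_self, Core.classInner_zero_left] at h1
  have h2 : (mult χ l : ℂ) = (mult χ m : ℂ) := by linear_combination -h1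
  exact_mod_cast h2

/-- The induced difference is a difference of irreducible characters. -/
theorem ind_eq [Fintype A] (hA : IsCC A) {χ₁ χ₂ : IrrCharacter D} (hne : χ₁ ≠ χ₂) {l m : NP A}
    (h1l : mult χ₁ l.1 = 1) (h1m : mult χ₁ m.1 = 0) (h2l : mult χ₂ l.1 = 0)
    (h2m : mult χ₂ m.1 = 1) :
    indFun A ((l.1 : A → ℂ) - (m.1 : A → ℂ)) = (χ₁ : D → ℂ) - (χ₂ : D → ℂ) := by
  have hrel : ¬ Rel A (m.1 : A → ℂ) (l.1 : A → ℂ) := not_rel_of_mult (χ := χ₁) (by omega)
  have hrel' : ¬ Rel A (l.1 : A → ℂ) (m.1 : A → ℂ) := fun h => hrel h.symm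
  rw [← sub_eq_zero]
  apply Core.classInner_self_eq_zero
  have e1 := inner_ind_sub χ₁ l.1 m.1
  have e2 := inner_ind_sub χ₂ l.1 m.1
  rw [h1l, h1m] at e1
  rw [h2l, h2m] at e2
  have e3 := classInner_indFun_sub hA l.1.2 m.1.2 l.1.2 m.1.2 l.2 m.2
  rw [if_pos (Rel.refl _), if_neg hrel, if_neg hrel', if_pos (Rel.refl _)] at e3
  have e4 : classInner (χ₁ : D → ℂ) (indFun A ((l.1 : A → ℂ) - (m.1 : A → ℂ))) = 1 := by
    rw [← Core.classInner_conj_symm, e1]; simp
  have e5 : classInner (χ₂ : D → ℂ) (indFun A ((l.1 : A → ℂ) - (m.1 : A → ℂ))) = -1 := by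
    rw [← Core.classInner_conj_symm, e2]; simp
  simp only [Core.classInner_sub_left, Core.classInner_sub_right] at e1 e2 e3 e4 e5 ⊢
  rw [Core.classInner_irr_self χ₁.2, Core.classInner_irr_self χ₂.2,
    Core.classInner_irr_ne χ₁.2 χ₂.2 (fun h => hne (Subtype.ext h)),
    Core.classInner_irr_ne χ₂.2 χ₁.2 (fun h => hne (Subtype.ext h.symm)), e1, e2, e3, e4, e5]
  push_cast
  ring

/-- The constituents of the restriction are a single orbit. -/
theorem rel_of_mult [Fintype A] (hA : IsCC A) {χ₁ χ₂ : IrrCharacter D} (hne : χ₁ ≠ χ₂)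
    {l l' m : NP A} (h1l : mult χ₁ l.1 = 1) (h1l' : mult χ₁ l'.1 = 1) (h1m : mult χ₁ m.1 = 0)
    (h2l : mult χ₂ l.1 = 0) (h2l' : mult χ₂ l'.1 = 0) (h2m : mult χ₂ m.1 = 1) :
    Rel A (l.1 : A → ℂ) (l'.1 : A → ℂ) := by
  by_contra hrel
  have hrel' : ¬ Rel A (l'.1 : A → ℂ) (l.1 : A → ℂ) := fun h => hrel h.symm
  have h1 := ind_eq hA hne h1l h1m h2l h2m
  have h2 := ind_eq hA hne h1l' h1m h2l' h2m
  have h3 : indFun A ((l.1 : A → ℂ) - (l'.1 : A → ℂ)) = 0 := by
    have e : indFun A ((l.1 : A → ℂ) - (l'.1 : A → ℂ)) =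
        indFun A ((l.1 : A → ℂ) - (m.1 : A → ℂ)) - indFun A ((l'.1 : A → ℂ) - (m.1 : A → ℂ)) := by
      rw [indFun_sub, indFun_sub, indFun_sub]; abel
    rw [e, h1, h2, sub_self]
  have e3 := classInner_indFun_sub hA l.1.2 l'.1.2 l.1.2 l'.1.2 l.2 l'.2
  rw [if_pos (Rel.refl _), if_neg hrel, if_neg hrel', if_pos (Rel.refl _), h3,
    Core.classInner_zero_left] at e3
  norm_num at e3


theorem mult_one_one [Fintype A] : mult (one D) (one A) = 1 := by
  have h := mult_spec (one D) (one A)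
  have h1 : classInner (fun a : A => ((one D : IrrCharacter D) : D → ℂ) a)
      ((one A : IrrCharacter A) : A → ℂ) = 1 := Core.classInner_irr_self Core.isIrr_one
  rw [h1] at h
  exact_mod_cast h.symm

theorem mult_one_ne [Fintype A] {l : IrrCharacter A} (hl : (l : A → ℂ) ≠ 1) :
    mult (one D) l = 0 := by
  have h := mult_spec (one D) l
  have h1 : classInner (fun a : A => ((one D : IrrCharacter D) : D → ℂ) a) (l : A → ℂ) = 0 :=
    Core.classInner_irr_ne Core.isIrr_one l.2 (fun h => hl h.symm)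
  rw [h1] at h
  exact_mod_cast h.symm

/-- The data of the permutation character. -/
structure Dat [Fintype A] [Fintype (IrrCharacter D)] (S : Subgroup D) [Fintype S] (π : D → ℂ)
    (n : IrrCharacter D → ℕ) (m : ℕ) : Prop where
  hA : IsCC A
  hn : π = ∑ ψ : IrrCharacter D, n ψ • (ψ : D → ℂ)
  hπS : ∀ χ : D → ℂ, IsClassFunction D χ →
    classInner π χ = classInner (1 : S → ℂ) (fun h : S => χ h)
  hπA : ∀ a ∈ A, a ≠ 1 → π a = 0
  hπ1 : π 1 = Nat.card A
  hS : ∀ y ∈ S, ∀ x : D, x ≠ 1 → x ∈ A → ¬ IsConj x y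
  h2 : ¬ IsIrrCharacter D (π - 1)
  hm : Nat.card (Subgroup.normalizer (A : Set D)) = Nat.card A * m
  hm2 : 2 ≤ m
  hmn : (m - 1) ^ 2 < Nat.card A

namespace Dat

variable [Fintype A] [Fintype (IrrCharacter D)] {S : Subgroup D} [Fintype S] {π : D → ℂ}
  {n : IrrCharacter D → ℕ} {m : ℕ}

theorem sum_n_mult (h : Dat (A := A) S π n m) (θ : IrrCharacter A) :
    ∑ ψ : IrrCharacter D, (n ψ : ℤ) * mult ψ θ = 1 := by
  classical
  have h1 : classInner (fun a : A => π a) (θ : A → ℂ) = 1 := by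
    rw [Core.classInner_def, Finset.sum_eq_single (1 : A)]
    · rw [Subgroup.coe_one, h.hπ1, irr_apply_one_of_comm (comm_coe h.hA) θ.2, map_one, mul_one,
        inv_mul_cancel₀ Core.card_ne_zero_complex]
    · intro a _ ha
      rw [h.hπA a a.2 (fun hc => ha (Subtype.ext hc)), zero_mul]
    · intro hc
      exact absurd (Finset.mem_univ _) hc
  have h2 : (fun a : A => π a) = ∑ ψ : IrrCharacter D, (n ψ : ℂ) • (fun a : A => (ψ : D → ℂ) a) := by
    funext a
    rw [h.hn, Finset.sum_apply, Finset.sum_apply]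
    refine Finset.sum_congr rfl fun ψ _ => ?_
    simp
  rw [h2, Core.classInner_sum_left] at h1
  have h3 : ∑ ψ : IrrCharacter D, classInner ((n ψ : ℂ) • (fun a : A => (ψ : D → ℂ) a)) (θ : A → ℂ) =
      ((∑ ψ : IrrCharacter D, (n ψ : ℤ) * mult ψ θ : ℤ) : ℂ) := by
    push_cast
    refine Finset.sum_congr rfl fun ψ _ => ?_
    rw [Core.classInner_smul_left, mult_spec]
  rw [h3] at h1
  exact_mod_cast h1

theorem n_one (h : Dat (A := A) S π n m) : n (one D) = 1 := by
  have h1 := h.hπS 1 (Core.isIrr_isClassFunction Core.isIrr_one)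
  have h2 : classInner (1 : S → ℂ) (fun x : S => (1 : D → ℂ) x) = 1 :=
    Core.classInner_irr_self Core.isIrr_one
  have h3 := Core.classInner_sum_nsmul_irr n (one D)
  rw [← h.hn, coe_one, h1, h2] at h3
  exact_mod_cast h3.symm

theorem exists_mult_pos (h : Dat (A := A) S π n m) (ψ : IrrCharacter D) : ∃ θ : IrrCharacter A, 1 ≤ mult ψ θ := by
  have : Finite (IrrCharacter A) := Core.finite_irr
  have : Fintype (IrrCharacter A) := Fintype.ofFinite _
  by_contra hc
  push Not at hc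
  have h1 := sum_mult h.hA ψ
  rw [Finset.sum_eq_zero (fun l _ => le_antisymm (by have := hc l; omega) (mult_nonneg ψ l))] at h1
  exact Core.isIrr_apply_one_ne_zero ψ.2 (by simpa using h1)

theorem term_nonneg (ψ : IrrCharacter D) (θ : IrrCharacter A) : 0 ≤ (n ψ : ℤ) * mult ψ θ :=
  mul_nonneg (Int.natCast_nonneg _) (mult_nonneg _ _)

theorem term_le (h : Dat (A := A) S π n m) (ψ : IrrCharacter D) (θ : IrrCharacter A) :
    (n ψ : ℤ) * mult ψ θ ≤ 1 := by
  rw [← h.sum_n_mult θ]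
  exact Finset.single_le_sum (f := fun ψ : IrrCharacter D => (n ψ : ℤ) * mult ψ θ)
    (fun ψ _ => term_nonneg ψ θ) (Finset.mem_univ ψ)

theorem term_add_le (h : Dat (A := A) S π n m) {ψ ψ' : IrrCharacter D} (hne : ψ ≠ ψ')
    (θ : IrrCharacter A) : (n ψ : ℤ) * mult ψ θ + (n ψ' : ℤ) * mult ψ' θ ≤ 1 := by
  classical
  rw [← h.sum_n_mult θ, ← Finset.sum_pair (f := fun ψ : IrrCharacter D => (n ψ : ℤ) * mult ψ θ) hne]
  exact Finset.sum_le_sum_of_subset_of_nonneg (Finset.subset_univ _) (fun ψ _ _ => term_nonneg ψ θ)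

theorem n_le (h : Dat (A := A) S π n m) (ψ : IrrCharacter D) : n ψ ≤ 1 := by
  obtain ⟨θ, hθ⟩ := h.exists_mult_pos ψ
  have h1 := h.term_le ψ θ
  by_contra hc
  push Not at hc
  have : (2 : ℤ) * 1 ≤ (n ψ : ℤ) * mult ψ θ := by
    apply mul_le_mul _ hθ (by norm_num) (Int.natCast_nonneg _)
    exact_mod_cast hc
  omega

theorem mult_le (h : Dat (A := A) S π n m) {ψ : IrrCharacter D} (hψ : n ψ = 1)
    (θ : IrrCharacter A) : mult ψ θ ≤ 1 := by
  have := h.term_le ψ θ
  rw [hψ] at this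
  simpa using this

theorem mult_eq_zero (h : Dat (A := A) S π n m) {ψ ψ' : IrrCharacter D} (hne : ψ ≠ ψ')
    (hψ : n ψ = 1) (hψ' : n ψ' = 1) {θ : IrrCharacter A} (hθ : mult ψ θ = 1) :
    mult ψ' θ = 0 := by
  have h1 := h.term_add_le hne θ
  rw [hψ, hψ', hθ] at h1
  have h2 := mult_nonneg ψ' θ
  push_cast at h1
  omega

theorem mult_one_eq_zero (h : Dat (A := A) S π n m) {ψ : IrrCharacter D} (hne : ψ ≠ one D)
    (hψ : n ψ = 1) : mult ψ (one A) = 0 :=
  h.mult_eq_zero hne.symm h.n_one hψ mult_one_one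

theorem exists_np (h : Dat (A := A) S π n m) {ψ : IrrCharacter D} (hne : ψ ≠ one D)
    (hψ : n ψ = 1) : ∃ l : NP A, mult ψ l.1 = 1 := by
  obtain ⟨θ, hθ⟩ := h.exists_mult_pos ψ
  have h1 := h.mult_le hψ θ
  have h2 : mult ψ θ = 1 := by omega
  refine ⟨⟨θ, ?_⟩, h2⟩
  intro hc
  have : θ = one A := Subtype.ext hc
  rw [this, h.mult_one_eq_zero hne hψ] at hθ
  omega

theorem exists_of_np (h : Dat (A := A) S π n m) (l : NP A) :
    ∃ ψ : IrrCharacter D, ψ ≠ one D ∧ n ψ = 1 ∧ mult ψ l.1 = 1 := by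
  by_contra hc
  push Not at hc
  have h1 := h.sum_n_mult l.1
  rw [Finset.sum_eq_zero] at h1
  · omega
  · intro ψ _
    by_cases h3 : ψ = one D
    · rw [h3, mult_one_ne l.2, mul_zero]
    · have h2 := h.n_le ψ
      by_cases h4 : n ψ = 0
      · rw [h4]; simp
      · have h5 : n ψ = 1 := by omega
        have h6 := h.mult_le h5 l.1
        have h7 := mult_nonneg ψ l.1
        have h8 := hc ψ h3 h5
        have : mult ψ l.1 = 0 := by omega
        rw [this, mul_zero]

open Classical in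
/-- The nonprincipal constituents. -/
noncomputable def Psi (n : IrrCharacter D → ℕ) : Finset (IrrCharacter D) :=
  Finset.univ.filter (fun ψ => ψ ≠ one D ∧ n ψ = 1)

theorem mem_Psi {ψ : IrrCharacter D} : ψ ∈ Psi n ↔ ψ ≠ one D ∧ n ψ = 1 := by
  simp [Psi]

theorem pi_eq (h : Dat (A := A) S π n m) : π = 1 + ∑ ψ ∈ Psi n, (ψ : D → ℂ) := by
  classical
  have h1 : ∑ ψ : IrrCharacter D, n ψ • (ψ : D → ℂ) =
      n (one D) • ((one D : IrrCharacter D) : D → ℂ) +
        ∑ ψ ∈ Finset.univ.erase (one D), n ψ • (ψ : D → ℂ) :=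
    (Finset.add_sum_erase _ _ (Finset.mem_univ _)).symm
  have h2 : ∑ ψ ∈ Finset.univ.erase (one D), n ψ • (ψ : D → ℂ) = ∑ ψ ∈ Psi n, (ψ : D → ℂ) := by
    symm
    rw [Finset.sum_subset_zero_on_sdiff (s₁ := Psi n) (s₂ := Finset.univ.erase (one D))]
    · intro ψ hψ
      rw [mem_Psi] at hψ
      exact Finset.mem_erase.2 ⟨hψ.1, Finset.mem_univ _⟩
    · intro ψ hψ
      rw [Finset.mem_sdiff, mem_Psi, Finset.mem_erase] at hψ
      have h3 := h.n_le ψ
      have : n ψ = 0 := by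
        have := hψ.2
        by_contra h4
        exact this ⟨hψ.1.1, by omega⟩
      rw [this, zero_smul]
    · intro ψ hψ
      rw [mem_Psi] at hψ
      rw [hψ.2, one_smul]
  rw [h.hn, h1, h2, h.n_one, one_smul, coe_one]

theorem two_le_card (h : Dat (A := A) S π n m) : 1 < (Psi n).card := by
  by_contra hc
  push Not at hc
  have h1 := h.pi_eq
  rcases Nat.lt_or_ge (Psi n).card 1 with h0 | h0
  · have h2 : Psi n = ∅ := Finset.card_eq_zero.1 (by omega)
    rw [h2, Finset.sum_empty, add_zero] at h1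
    have h3 := h.hπ1
    rw [h1, Pi.one_apply] at h3
    have h4 : Nat.card A = 1 := by exact_mod_cast h3.symm
    exact h.hA.ne_bot (Subgroup.card_eq_one.1 h4)
  · have h2 : (Psi n).card = 1 := by omega
    obtain ⟨ψ, hψ⟩ := Finset.card_eq_one.1 h2
    rw [hψ, Finset.sum_singleton] at h1
    apply h.h2
    rw [h1, add_sub_cancel_left]
    exact ψ.2

theorem exists_other (h : Dat (A := A) S π n m) (ψ : IrrCharacter D) :
    ∃ ψ' ∈ Psi n, ψ' ≠ ψ := Finset.exists_mem_ne h.two_le_card ψ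

theorem ind_eq' (h : Dat (A := A) S π n m) {ψ ψ' : IrrCharacter D} (hψ : ψ ∈ Psi n)
    (hψ' : ψ' ∈ Psi n) (hne : ψ ≠ ψ') {l l' : NP A} (hl : mult ψ l.1 = 1)
    (hl' : mult ψ' l'.1 = 1) :
    indFun A ((l.1 : A → ℂ) - (l'.1 : A → ℂ)) = (ψ : D → ℂ) - (ψ' : D → ℂ) := by
  rw [mem_Psi] at hψ hψ'
  exact ind_eq h.hA hne hl (h.mult_eq_zero hne.symm hψ'.2 hψ.2 hl')
    (h.mult_eq_zero hne hψ.2 hψ'.2 hl) hl'

/-- All constituents agree on the stabiliser. -/
theorem eq_on (h : Dat (A := A) S π n m) {ψ ψ' : IrrCharacter D} (hψ : ψ ∈ Psi n)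
    (hψ' : ψ' ∈ Psi n) {y : D} (hy : y ∈ S) : (ψ : D → ℂ) y = (ψ' : D → ℂ) y := by
  by_cases hne : ψ = ψ'
  · rw [hne]
  · obtain ⟨l, hl⟩ := h.exists_np (mem_Psi.1 hψ).1 (mem_Psi.1 hψ).2
    obtain ⟨l', hl'⟩ := h.exists_np (mem_Psi.1 hψ').1 (mem_Psi.1 hψ').2
    have h1 := congrFun (h.ind_eq' hψ hψ' hne hl hl') y
    rw [indFun_eq_zero_of_not_conj] at h1
    · rw [Pi.sub_apply] at h1
      exact (sub_eq_zero.1 h1.symm)
    · rw [Pi.sub_apply, irr_apply_one_of_comm (comm_coe h.hA) l.1.2,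
        irr_apply_one_of_comm (comm_coe h.hA) l'.1.2, sub_self]
    · exact h.hS y hy

/-- The degree of the constituents. -/
theorem degree (h : Dat (A := A) S π n m) {ψ : IrrCharacter D} (hψ : ψ ∈ Psi n) :
    (ψ : D → ℂ) 1 = m := by
  classical
  have : Finite (IrrCharacter A) := Core.finite_irr
  have : Fintype (IrrCharacter A) := Fintype.ofFinite _
  obtain ⟨ψ', hψ', hne⟩ := h.exists_other ψ
  obtain ⟨l, hl⟩ := h.exists_np (mem_Psi.1 hψ).1 (mem_Psi.1 hψ).2
  obtain ⟨l', hl'⟩ := h.exists_np (mem_Psi.1 hψ').1 (mem_Psi.1 hψ').2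
  have key : ∀ θ : IrrCharacter A, mult ψ θ = if Rel A (l.1 : A → ℂ) (θ : A → ℂ) then 1 else 0 := by
    intro θ
    split_ifs with hr
    · by_contra hc
      exact not_rel_of_mult (χ := ψ) (l := θ) (m := l.1) (by rw [hl]; exact hc) hr
    · have h1 := h.mult_le (mem_Psi.1 hψ).2 θ
      have h2 := mult_nonneg ψ θ
      by_contra hc
      have h3 : mult ψ θ = 1 := by omega
      have h4 : (θ : A → ℂ) ≠ 1 := by
        intro h5
        have : θ = one A := Subtype.ext h5
        rw [this, h.mult_one_eq_zero (mem_Psi.1 hψ).1 (mem_Psi.1 hψ).2] at h3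
        omega
      apply hr
      exact rel_of_mult h.hA hne.symm (l := l) (l' := ⟨θ, h4⟩) (m := l') hl h3
        (h.mult_eq_zero hne (mem_Psi.1 hψ').2 (mem_Psi.1 hψ).2 hl')
        (h.mult_eq_zero hne.symm (mem_Psi.1 hψ).2 (mem_Psi.1 hψ').2 hl)
        (h.mult_eq_zero hne.symm (mem_Psi.1 hψ).2 (mem_Psi.1 hψ').2 h3) hl'
  rw [sum_mult h.hA ψ, Finset.sum_congr rfl (fun θ _ => key θ), Finset.sum_boole]
  have h1 := card_rel_mul_card h.hA l.1.2 l.2
  rw [h.hm, mul_comm] at h1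
  have h2 := Nat.eq_of_mul_eq_mul_left Nat.card_pos h1
  rw [h2]
  push_cast
  rfl

/-- A character outside the set of constituents has constant multiplicities. -/
theorem mult_const (h : Dat (A := A) S π n m) {ψ : IrrCharacter D} (hψ : ψ ∉ Psi n) (l l' : NP A) :
    mult ψ l.1 = mult ψ l'.1 := by
  have key : ∀ {χ χ' : IrrCharacter D}, χ ∈ Psi n → χ' ∈ Psi n → χ ≠ χ' → ∀ l l' : NP A,
      mult χ l.1 = 1 → mult χ' l'.1 = 1 → mult ψ l.1 = mult ψ l'.1 := by
    intro χ χ' hχ hχ' hne l l' hl hl'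
    have h1 := inner_ind_sub ψ l.1 l'.1
    rw [h.ind_eq' hχ hχ' hne hl hl', Core.classInner_sub_left,
      Core.classInner_irr_ne χ.2 ψ.2 (fun hc => hψ (by rwa [← Subtype.ext hc])),
      Core.classInner_irr_ne χ'.2 ψ.2 (fun hc => hψ (by rwa [← Subtype.ext hc]))] at h1
    have h2 : (mult ψ l.1 : ℂ) = (mult ψ l'.1 : ℂ) := by linear_combination -h1
    exact_mod_cast h2
  obtain ⟨χ, h1, h2, h3⟩ := h.exists_of_np l
  obtain ⟨χ', h1', h2', h3'⟩ := h.exists_of_np l'
  have hχ : χ ∈ Psi n := mem_Psi.2 ⟨h1, h2⟩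
  have hχ' : χ' ∈ Psi n := mem_Psi.2 ⟨h1', h2'⟩
  by_cases hne : χ = χ'
  · obtain ⟨χ'', h4, h5⟩ := h.exists_other χ
    obtain ⟨l'', hl''⟩ := h.exists_np (mem_Psi.1 h4).1 (mem_Psi.1 h4).2
    rw [key hχ h4 h5.symm l l'' h3 hl'', key h4 hχ' (by rw [← hne]; exact h5) l'' l' hl'' h3']
  · exact key hχ hχ' hne l l' h3 h3'

/-- The values on the stabiliser. -/
theorem values (h : Dat (A := A) S π n m) {y : D} (hy : y ∈ S) :
    π y = 1 ∨ π y = Nat.card A := by
  classical
  have : Finite (IrrCharacter A) := Core.finite_irr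
  have : Fintype (IrrCharacter A) := Fintype.ofFinite _
  obtain ⟨χ₁, hχ₁, -⟩ := h.exists_other (one D)
  obtain ⟨χ₂, hχ₂, hne⟩ := h.exists_other χ₁
  have hX : IsCharacter D (fun g => (χ₁ : D → ℂ) g * conj ((χ₂ : D → ℂ) g)) :=
    Core.isCharacter_mul (Core.isIrr_isCharacter χ₁.2)
      (Core.isCharacter_conj (Core.isIrr_isCharacter χ₂.2))
  obtain ⟨k, hk⟩ := Core.exists_nat_comb hX
  have hkψ : ∀ ψ : IrrCharacter D,
      classInner (fun g => (χ₁ : D → ℂ) g * conj ((χ₂ : D → ℂ) g)) (ψ : D → ℂ) = k ψ := by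
    intro ψ
    rw [hk]
    exact Core.classInner_sum_nsmul_irr k ψ
  have hk1 : k (one D) = 0 := by
    have h1 := hkψ (one D)
    have h2 : classInner (fun g => (χ₁ : D → ℂ) g * conj ((χ₂ : D → ℂ) g))
        ((one D : IrrCharacter D) : D → ℂ) = classInner (χ₁ : D → ℂ) (χ₂ : D → ℂ) := by
      rw [Core.classInner_def, Core.classInner_def, coe_one]
      simp
    rw [h2, Core.classInner_irr_ne χ₁.2 χ₂.2 (fun hc => hne (Subtype.ext hc.symm))] at h1
    exact_mod_cast h1.symm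
  -- b
  obtain ⟨b, hb⟩ : ∃ b : ℕ, b = ∑ ψ ∈ Psi n, k ψ := ⟨_, rfl⟩
  have hbX : (b : ℂ) =
      classInner (fun x : S => (χ₁ : D → ℂ) x) (fun x : S => (χ₂ : D → ℂ) x) := by
    have h1 := h.hπS (fun g => (χ₁ : D → ℂ) g * conj ((χ₂ : D → ℂ) g))
      (Core.isCharacter_isClassFunction hX)
    have h2 : classInner π (fun g => (χ₁ : D → ℂ) g * conj ((χ₂ : D → ℂ) g)) = b := by
      rw [← Core.classInner_conj_symm, h.pi_eq, Core.classInner_add_right,
        Core.classInner_sum_right, ← coe_one D, hkψ, hk1, hb]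
      simp only [hkψ]
      simp
    rw [h2] at h1
    have h3 : (b : ℂ) =
        classInner (fun x : S => (χ₁ : D → ℂ) x * conj ((χ₂ : D → ℂ) x)) (1 : S → ℂ) := by
      rw [← Core.classInner_conj_symm, ← h1, map_natCast]
    rw [h3, Core.classInner_def, Core.classInner_def]
    simp
  have hbX' : (b : ℂ) =
      classInner (fun x : S => (χ₁ : D → ℂ) x) (fun x : S => (χ₁ : D → ℂ) x) := by
    rw [hbX]
    congr 1
    funext x
    exact h.eq_on hχ₂ hχ₁ x.2
  have hf1 : classInner (1 : S → ℂ) (fun x : S => (χ₁ : D → ℂ) x) = 1 := by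
    rw [← h.hπS (χ₁ : D → ℂ) (Core.isIrr_isClassFunction χ₁.2), h.hn,
      Core.classInner_sum_nsmul_irr n χ₁, (mem_Psi.1 hχ₁).2, Nat.cast_one]
  have hf1' : classInner (fun x : S => (χ₁ : D → ℂ) x) (1 : S → ℂ) = 1 := by
    rw [← Core.classInner_conj_symm, hf1, map_one]
  have hb2 : 2 ≤ b := by
    have h1 : classInner ((fun x : S => (χ₁ : D → ℂ) x) - 1) ((fun x : S => (χ₁ : D → ℂ) x) - 1) =
        (b : ℂ) - 1 := by
      rw [Core.classInner_sub_left, Core.classInner_sub_right, Core.classInner_sub_right, ← hbX',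
        hf1, hf1', Core.classInner_irr_self Core.isIrr_one]
      ring
    by_contra hc
    push Not at hc
    have h3 : b = 0 ∨ b = 1 := by omega
    rcases h3 with h3 | h3
    · rw [h3, Core.classInner_self_eq_ofReal] at h1
      have h4 : (0 : ℝ) ≤ ((Nat.card S : ℝ)⁻¹ *
          ∑ g : S, Complex.normSq (((fun x : S => (χ₁ : D → ℂ) x) - 1) g) : ℝ) :=
        mul_nonneg (inv_nonneg.2 (Nat.cast_nonneg _))
          (Finset.sum_nonneg fun _ _ => Complex.normSq_nonneg _)
      have h5 := congrArg Complex.re h1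
      have h6 : ((((0 : ℕ) : ℂ) - 1).re) = -1 := by simp
      rw [Complex.ofReal_re, h6] at h5
      linarith
    · rw [h3, Nat.cast_one, sub_self] at h1
      have h4 := congrFun (Core.classInner_self_eq_zero h1) 1
      rw [Pi.sub_apply, Pi.zero_apply, Subgroup.coe_one, Pi.one_apply, h.degree hχ₁] at h4
      have h5 : (m : ℂ) = 1 := by linear_combination h4
      have h6 : m = 1 := by exact_mod_cast h5
      have := h.hm2
      omega
  -- multiplicities outside
  obtain ⟨μ, hμ⟩ : ∃ μ : IrrCharacter A → ℤ,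
      μ = fun l => ∑ ψ ∈ Finset.univ \ Psi n, (k ψ : ℤ) * mult ψ l := ⟨_, rfl⟩
  have hμ0 : ∀ l, 0 ≤ μ l := by
    intro l
    rw [hμ]
    exact Finset.sum_nonneg fun ψ _ => term_nonneg ψ l
  have hμ1 : μ (one A) = 0 := by
    refine le_antisymm ?_ (hμ0 _)
    have h1 : ∑ ψ : IrrCharacter D, (k ψ : ℤ) * mult ψ (one A) = 0 := by
      have h2 : classInner (fun a : A => (χ₁ : D → ℂ) a * conj ((χ₂ : D → ℂ) a))
          ((one A : IrrCharacter A) : A → ℂ) = 0 := by
        have h3 : classInner (fun a : A => (χ₁ : D → ℂ) a * conj ((χ₂ : D → ℂ) a))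
          ((one A : IrrCharacter A) : A → ℂ) =
            classInner (fun a : A => (χ₁ : D → ℂ) a) (fun a : A => (χ₂ : D → ℂ) a) := by
          rw [Core.classInner_def, Core.classInner_def, coe_one]
          simp
        rw [h3, Core.classInner_eq_sum (classFunction_of_comm h.hA _)
          (classFunction_of_comm h.hA _)]
        refine Finset.sum_eq_zero fun l _ => ?_
        rw [mult_spec, mult_spec]
        have h4 := h.term_add_le hne l
        rw [(mem_Psi.1 hχ₁).2, (mem_Psi.1 hχ₂).2] at h4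
        have h5 := mult_nonneg χ₁ l
        have h6 := mult_nonneg χ₂ l
        push_cast at h4
        have h7 : mult χ₁ l = 0 ∨ mult χ₂ l = 0 := by omega
        rcases h7 with h7 | h7
        · rw [h7]; simp
        · rw [h7]; simp
      have h3 : (fun a : A => (χ₁ : D → ℂ) a * conj ((χ₂ : D → ℂ) a)) =
          ∑ ψ : IrrCharacter D, (k ψ : ℂ) • (fun a : A => (ψ : D → ℂ) a) := by
        funext a
        have h4 := congrFun hk (a : D)
        rw [Finset.sum_apply] at h4
        rw [Finset.sum_apply]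
        refine h4.trans (Finset.sum_congr rfl fun ψ _ => ?_)
        simp
      rw [h3, Core.classInner_sum_left] at h2
      have h5 : ∑ ψ : IrrCharacter D, classInner ((k ψ : ℂ) • (fun a : A => (ψ : D → ℂ) a))
          ((one A : IrrCharacter A) : A → ℂ) =
          ((∑ ψ : IrrCharacter D, (k ψ : ℤ) * mult ψ (one A) : ℤ) : ℂ) := by
        push_cast
        refine Finset.sum_congr rfl fun ψ _ => ?_
        rw [Core.classInner_smul_left, mult_spec]
      rw [h5] at h2
      exact_mod_cast h2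
    rw [hμ, ← h1]
    exact Finset.sum_le_sum_of_subset_of_nonneg (Finset.subset_univ _)
      (fun ψ _ _ => term_nonneg ψ (one A))
  obtain ⟨l₀⟩ := nonempty_np h.hA
  have hμc : ∀ l : NP A, μ l.1 = μ l₀.1 := by
    intro l
    rw [hμ]
    refine Finset.sum_congr rfl fun ψ hψ => ?_
    rw [h.mult_const (Finset.mem_sdiff.1 hψ).2 l l₀]
  have : Fintype (NP A) := Fintype.ofFinite _
  have hsum : ∑ l : IrrCharacter A, μ l = ((Nat.card A : ℤ) - 1) * μ l₀.1 := by
    rw [sum_irr_eq, hμ1, zero_add, Finset.sum_congr rfl (fun l _ => hμc l), Finset.sum_const,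
      Finset.card_univ]
    have := card_np h.hA
    rw [← this]
    push_cast
    rw [nsmul_eq_mul]
    ring
  have hdeg : ∑ ψ ∈ Finset.univ \ Psi n, (k ψ : ℂ) * (ψ : D → ℂ) 1 =
      ((((Nat.card A : ℤ) - 1) * μ l₀.1 : ℤ) : ℂ) := by
    rw [← hsum, hμ]
    simp only []
    rw [Finset.sum_comm]
    push_cast
    refine Finset.sum_congr rfl fun ψ _ => ?_
    rw [sum_mult h.hA ψ, ← Finset.mul_sum]
    push_cast
    rfl
  have hX1 : ((m : ℂ) * m) = (b : ℂ) * m + ((((Nat.card A : ℤ) - 1) * μ l₀.1 : ℤ) : ℂ) := by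
    have h1 := congrFun hk 1
    rw [Finset.sum_apply, h.degree hχ₁, h.degree hχ₂, map_natCast] at h1
    rw [h1, ← hdeg, ← Finset.sum_sdiff (Finset.subset_univ (Psi n)), add_comm]
    congr 1
    · rw [hb]
      push_cast
      rw [Finset.sum_mul]
      refine Finset.sum_congr rfl fun ψ hψ => ?_
      rw [Pi.smul_apply, h.degree hψ, nsmul_eq_mul]
    · refine Finset.sum_congr rfl fun ψ _ => ?_
      rw [Pi.smul_apply, nsmul_eq_mul]
  have hX2 : (m : ℤ) * m = b * m + ((Nat.card A : ℤ) - 1) * μ l₀.1 := by exact_mod_cast hX1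
  have hμl : μ l₀.1 = 0 := by
    by_contra hc
    have h1 : 1 ≤ μ l₀.1 := by have := hμ0 l₀.1; omega
    have h2 : 1 ≤ Nat.card A := Nat.card_pos
    have h3 : ((m - 1 : ℕ) : ℤ) ^ 2 < Nat.card A := by exact_mod_cast h.hmn
    have h4 : ((m - 1 : ℕ) : ℤ) = m - 1 := by
      have := h.hm2
      omega
    rw [h4] at h3
    have h5 : (2 : ℤ) * m ≤ b * m := by
      apply mul_le_mul_of_nonneg_right _ (Int.natCast_nonneg _)
      exact_mod_cast hb2
    have h6 : ((Nat.card A : ℤ) - 1) * 1 ≤ ((Nat.card A : ℤ) - 1) * μ l₀.1 :=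
      mul_le_mul_of_nonneg_left h1 (by omega)
    nlinarith
  rw [hμl, mul_zero, add_zero] at hX2
  have hbm : b = m := by
    have h1 : (m : ℤ) ≠ 0 := by
      have := h.hm2
      omega
    have h2 := mul_right_cancel₀ h1 hX2
    exact_mod_cast h2.symm
  have hk0 : ∀ ψ ∈ Finset.univ \ Psi n, k ψ = 0 := by
    have h1 : ∑ ψ ∈ Finset.univ \ Psi n, (k ψ : ℂ) * (ψ : D → ℂ) 1 = 0 := by
      rw [hdeg, hμl, mul_zero, Int.cast_zero]
    have h2 : ∀ ψ : IrrCharacter D, ∃ d : ℕ, 0 < d ∧ (ψ : D → ℂ) 1 = d :=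
      fun ψ => Core.isIrr_apply_one ψ.2
    choose d hd hd' using h2
    have h3 : ∑ ψ ∈ Finset.univ \ Psi n, k ψ * d ψ = 0 := by
      have : ((∑ ψ ∈ Finset.univ \ Psi n, k ψ * d ψ : ℕ) : ℂ) = 0 := by
        push_cast
        rw [← h1]
        exact Finset.sum_congr rfl fun ψ _ => by rw [hd']
      exact_mod_cast this
    intro ψ hψ
    have h4 := (Finset.sum_eq_zero_iff.1 h3) ψ hψ
    rcases Nat.mul_eq_zero.1 h4 with h5 | h5
    · exact h5
    · have := hd ψ
      omega
  have hXy : (χ₁ : D → ℂ) y * conj ((χ₁ : D → ℂ) y) = (m : ℂ) * (χ₁ : D → ℂ) y := by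
    have h1 := congrFun hk y
    rw [Finset.sum_apply, ← Finset.sum_sdiff (Finset.subset_univ (Psi n)),
      Finset.sum_eq_zero (fun ψ hψ => by rw [hk0 ψ hψ, zero_smul]; rfl), zero_add] at h1
    have h2 : ∑ ψ ∈ Psi n, (k ψ • (ψ : D → ℂ)) y = (m : ℂ) * (χ₁ : D → ℂ) y := by
      rw [← hbm, hb]
      push_cast
      rw [Finset.sum_mul]
      refine Finset.sum_congr rfl fun ψ hψ => ?_
      rw [Pi.smul_apply, nsmul_eq_mul, h.eq_on hψ hχ₁ hy]
    rw [h2] at h1
    rw [← h1, h.eq_on hχ₂ hχ₁ hy]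
  have hpi : ∀ z ∈ S, π z = 1 + ((Psi n).card : ℂ) * (χ₁ : D → ℂ) z := by
    intro z hz
    rw [h.pi_eq, Pi.add_apply, Pi.one_apply, Finset.sum_apply,
      Finset.sum_congr rfl (fun ψ hψ => h.eq_on hψ hχ₁ hz), Finset.sum_const, nsmul_eq_mul]
  have hpi1 := hpi 1 S.one_mem
  rw [h.hπ1, h.degree hχ₁] at hpi1
  have h1 : (χ₁ : D → ℂ) y * (conj ((χ₁ : D → ℂ) y) - m) = 0 := by linear_combination hXy
  rcases mul_eq_zero.1 h1 with h2 | h2
  · left
    rw [hpi y hy, h2, mul_zero, add_zero]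
  · right
    have h3 : conj ((χ₁ : D → ℂ) y) = m := by linear_combination h2
    have h4 : (χ₁ : D → ℂ) y = m := by
      have := congrArg conj h3
      rwa [Complex.conj_conj, map_natCast] at this
    rw [hpi y hy, h4, hpi1]

end Dat

end Cfsg.Agent.H393.CCStep

namespace Cfsg.Agent.H393

open Characters Characters.CCBasic CharactersDeep.NormalInd

/-- A transitive, not doubly transitive group with a regular subgroup `P` which is the centraliser of
each of its non-identity elements, and with `2 ≤ m = |N(P) : P|`, `(m - 1)^2 < |P|`, is a Frobenius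
group. -/
theorem cc_step {D Ω : Type*} [Group D] [Finite D] [MulAction D Ω] [FaithfulSMul D Ω] [Finite Ω]
    (htr : MulAction.IsPretransitive D Ω) (h2 : ¬ MulAction.IsMultiplyPretransitive D Ω 2)
    (P : Subgroup D) (x : Ω) (hPr : P.IsComplement' (MulAction.stabilizer D x))
    (hCC : ∀ z ∈ P, z ≠ 1 → Subgroup.centralizer ({z} : Set D) = P) (m : ℕ)
    (hm : Nat.card (Subgroup.normalizer (P : Set D)) = Nat.card P * m) (hm2 : 2 ≤ m)
    (hmn : (m - 1) ^ 2 < Nat.card P) :
    ∀ g : D, g ≠ 1 → Nat.card (MulAction.fixedBy Ω g) ≤ 1 := by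
  classical
  have : Fintype D := Fintype.ofFinite D
  have : Fintype P := Fintype.ofFinite P
  have : Fintype (MulAction.stabilizer D x) := Fintype.ofFinite _
  have : Finite (IrrCharacter D) := Core.finite_irr
  have : Fintype (IrrCharacter D) := Fintype.ofFinite _
  have hne : P ≠ ⊥ := by
    rintro rfl
    rw [Subgroup.card_bot] at hmn
    have : 1 ≤ m - 1 := by omega
    have : 1 ^ 2 ≤ (m - 1) ^ 2 := Nat.pow_le_pow_left this 2
    omega
  have hA : IsCC P := ⟨hne, hCC⟩
  have hcard : Nat.card P = Nat.card Ω := by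
    have h1 := hPr.card_mul_card
    have h3 := MulAction.index_stabilizer_of_transitive D x
    have h4 := (MulAction.stabilizer D x).card_mul_index
    rw [h3, ← h1, mul_comm] at h4
    exact (Nat.eq_of_mul_eq_mul_right Nat.card_pos h4).symm
  have hcard2 : 2 ≤ Nat.card Ω := by
    rw [← hcard]
    have : 1 ≤ m - 1 := by omega
    have : 1 ^ 2 ≤ (m - 1) ^ 2 := Nat.pow_le_pow_left this 2
    omega
  have hfree : ∀ a ∈ P, ∀ ω : Ω, a • ω = ω → a = 1 := by
    intro a ha ω hω
    obtain ⟨g, rfl⟩ := MulAction.exists_smul_eq D x ω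
    obtain ⟨⟨p, s⟩, hps⟩ := (hPr.existsUnique g).exists
    have hps' : (p : D) * (s : D) = g := hps
    have hg : g • x = (p : D) • x := by
      rw [← hps', mul_smul, MulAction.mem_stabilizer_iff.1 s.2]
    rw [hg, ← mul_smul] at hω
    have h3 : (p : D)⁻¹ * a * p ∈ MulAction.stabilizer D x := by
      rw [MulAction.mem_stabilizer_iff, mul_assoc, mul_smul, hω, inv_smul_smul]
    have h4 : (p : D)⁻¹ * a * p ∈ P := P.mul_mem (P.mul_mem (P.inv_mem p.2) ha) p.2
    have h5 : (p : D)⁻¹ * a * p = 1 := by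
      have := hPr.disjoint.le_bot (Subgroup.mem_inf.2 ⟨h4, h3⟩)
      exact Subgroup.mem_bot.1 this
    have h6 : a = (p : D) * ((p : D)⁻¹ * a * p) * (p : D)⁻¹ := by group
    rw [h6, h5]
    simp
  obtain ⟨π, hπ⟩ : ∃ π : D → ℂ, π = fun g : D => (Nat.card (MulAction.fixedBy Ω g) : ℂ) := ⟨_, rfl⟩
  have hπc : IsCharacter D π := by
    rw [hπ]
    exact S0157.isCharacter_fixedBy Ω
  obtain ⟨n, hn⟩ := Core.exists_nat_comb hπc
  have hD : CCStep.Dat (A := P) (MulAction.stabilizer D x) π n m := by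
    refine ⟨hA, hn, ?_, ?_, ?_, ?_, ?_, hm, hm2, hmn⟩
    · intro χ hχ
      rw [hπ, S0190.result Ω x, classInner_indFun _ _ _ hχ]
      rfl
    · intro a ha ha1
      rw [hπ]
      simp only [Nat.cast_eq_zero]
      rw [Finite.card_eq_zero_iff]
      exact ⟨fun ω => ha1 (hfree a ha ω.1 ω.2)⟩
    · rw [hπ]
      simp only []
      rw [hcard]
      congr 1
      exact Nat.card_congr (Equiv.subtypeUnivEquiv (fun ω => one_smul D ω))
    · intro y hy z hz1 hz hc
      obtain ⟨g, hg⟩ := isConj_iff.1 hc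
      apply hz1
      refine hfree z hz (g⁻¹ • x) ?_
      have h3 : y • x = x := hy
      rw [← hg, mul_smul, mul_smul] at h3
      rw [← inv_smul_eq_iff.2 h3.symm]
    · rw [hπ]
      intro hc
      exact h2 ((S0157.result Ω hcard2).1 hc)
  intro g hg
  by_contra hc
  push Not at hc
  have hpos : 0 < Nat.card (MulAction.fixedBy Ω g) := by omega
  obtain ⟨⟨ω, hω⟩⟩ := (Nat.card_pos_iff.1 hpos).1
  obtain ⟨k, rfl⟩ := MulAction.exists_smul_eq D x ω
  have h3 : k⁻¹ * g * k ∈ MulAction.stabilizer D x := by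
    rw [MulAction.mem_stabilizer_iff, mul_assoc, mul_smul, mul_smul,
      MulAction.mem_fixedBy.1 hω, inv_smul_smul]
  have h4 : π (k⁻¹ * g * k) = π g := by
    have := Core.isCharacter_isClassFunction hπc g k⁻¹
    rwa [inv_inv] at this
  rcases hD.values h3 with h5 | h5
  · rw [h4, hπ] at h5
    change (Nat.card (MulAction.fixedBy Ω g) : ℂ) = 1 at h5
    have h6 : Nat.card (MulAction.fixedBy Ω g) = 1 := by exact_mod_cast h5
    omega
  · rw [h4, hπ, hcard] at h5
    change (Nat.card (MulAction.fixedBy Ω g) : ℂ) = (Nat.card Ω : ℂ) at h5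
    have h6 : Nat.card (MulAction.fixedBy Ω g) = Nat.card Ω := by exact_mod_cast h5
    apply hg
    have h7 : MulAction.fixedBy Ω g = Set.univ := by
      rw [Nat.card_coe_set_eq] at h6
      exact Set.eq_of_subset_of_ncard_le (Set.subset_univ _)
        (by rw [Set.ncard_univ]; exact le_of_eq h6.symm) (Set.toFinite _)
    refine FaithfulSMul.eq_of_smul_eq_smul (α := Ω) fun ω => ?_
    have h8 : ω ∈ MulAction.fixedBy Ω g := by rw [h7]; trivial
    rw [one_smul]
    exact h8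

end Cfsg.Agent.H393
end

-- part: H393/BcgrC
section
/-!
# Primitive groups with a transitive normal subgroup outside which every element has exactly one
fixed point: the bound `(|G : D| + 1)^2 ≤ n`
-/

set_option autoImplicit false
set_option linter.unusedSectionVars false
set_option linter.unusedVariables false

namespace Cfsg.Agent.H393.Bcgr

open MulAction

/-- If `P` is abelian, transitive and self-normalising in `C`, then `C = P`. -/
theorem eq_of_normalizer_le {G Ω : Type*} [Group G] [Finite G] [MulAction G Ω] [FaithfulSMul G Ω]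
    [Finite Ω] {p : ℕ} [hp : Fact p.Prime] {P C : Subgroup G} (hPC : P ≤ C) (hPp : IsPGroup p P)
    (hPi : ¬ p ∣ P.relIndex C) (hPab : ∀ a ∈ P, ∀ b ∈ P, a * b = b * a)
    (hN : ∀ g ∈ C, g ∈ Subgroup.normalizer (P : Set G) → g ∈ P)
    (hPt : ∀ y z : Ω, ∃ u ∈ P, u • y = z) {a : ℕ} (hn : Nat.card Ω = p ^ a) : C = P := by
  have hQp : IsPGroup p (P.subgroupOf C) := hPp.comap_of_injective _ C.subtype_injective
  obtain ⟨Q, hQ⟩ : ∃ Q : Sylow p C, (Q : Subgroup C) = P.subgroupOf C :=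
    ⟨hQp.toSylow hPi, rfl⟩
  have hNC : Subgroup.normalizer ((Q : Subgroup C) : Set C) ≤
      Subgroup.centralizer ((Q : Subgroup C) : Set C) := by
    intro g hg
    rw [hQ] at hg ⊢
    have h1 : (g : G) ∈ Subgroup.normalizer (P : Set G) := by
      apply mem_normalizer_of
      intro u hu
      have h2 := (Subgroup.mem_normalizer_iff.1 hg ⟨u, hPC hu⟩).1 (Subgroup.mem_subgroupOf.2 hu)
      exact Subgroup.mem_subgroupOf.1 h2
    have h2 := hN g g.2 h1
    rw [Subgroup.mem_centralizer_iff]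
    intro u hu
    apply Subtype.ext
    exact hPab u hu g h2
  obtain ⟨K, hK⟩ : ∃ K : Subgroup C, K = (MonoidHom.transferSylow Q hNC).ker := ⟨_, rfl⟩
  have hKc : K.IsComplement' (Q : Subgroup C) := by
    rw [hK]; exact MonoidHom.ker_transferSylow_isComplement' Q hNC
  have hKn : K.Normal := by rw [hK]; infer_instance
  have hcard := hKc.card_mul_card
  have hKp : ¬ p ∣ Nat.card K := by
    have h1 := (Q : Subgroup C).card_mul_index
    have h2 : Nat.card K = (Q : Subgroup C).index :=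
      Nat.eq_of_mul_eq_mul_right (m := Nat.card (Q : Subgroup C)) Nat.card_pos
        (by rw [hcard, ← h1, mul_comm])
    rw [h2]
    exact Q.not_dvd_index
  have hCt : IsPretransitive C Ω := by
    refine ⟨fun y z => ?_⟩
    obtain ⟨u, hu, huy⟩ := hPt y z
    exact ⟨⟨u, hPC hu⟩, huy⟩
  have hKfix : ∀ k ∈ K, ∀ x : Ω, k • x = x := by
    intro k hk x
    have h1 : IsBlock C (orbit K x) := IsBlock.orbit_of_normal x
    have h2 := h1.ncard_dvd_card ⟨x, mem_orbit_self x⟩
    rw [hn] at h2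
    have h3 : (orbit K x).ncard ∣ Nat.card K := by
      rw [← index_stabilizer]
      exact Subgroup.index_dvd_card _
    have h4 : (orbit K x).ncard = 1 := by
      refine Nat.Coprime.eq_one_of_dvd ?_ h2
      exact Nat.Coprime.of_dvd_left h3
        (Nat.Coprime.pow_right a ((Nat.Prime.coprime_iff_not_dvd hp.out).2 hKp).symm)
    obtain ⟨y, hy⟩ := Set.ncard_eq_one.1 h4
    have h5 : x ∈ orbit K x := mem_orbit_self x
    have h6 : k • x ∈ orbit K x := ⟨⟨k, hk⟩, rfl⟩
    rw [hy, Set.mem_singleton_iff] at h5 h6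
    rw [h6, ← h5]
  have hK1 : K = ⊥ := by
    rw [eq_bot_iff]
    intro k hk
    rw [Subgroup.mem_bot]
    refine FaithfulSMul.eq_of_smul_eq_smul (α := Ω) fun x => ?_
    rw [one_smul]
    exact hKfix k hk x
  rw [hK1, Subgroup.card_bot, one_mul, hQ] at hcard
  have h1 : P.subgroupOf C = ⊤ := Subgroup.eq_top_of_card_eq _ hcard
  exact le_antisymm (Subgroup.subgroupOf_eq_top.1 h1) hPC

theorem arith {e m n : ℕ} (he : 2 ≤ e) (hm : 2 ≤ m) (h1 : n < (e + 1) ^ 2) (h2 : e * m ≤ n - 1)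
    (hn : 1 ≤ n) : (m - 1) ^ 2 < n := by
  by_contra hc
  push Not at hc
  obtain ⟨b, rfl⟩ : ∃ b, m = b + 1 := ⟨m - 1, by omega⟩
  rw [Nat.add_sub_cancel] at hc
  have h3 : e * b + e + 1 ≤ n := by
    have : e * (b + 1) = e * b + e := by ring
    omega
  have h4 : (e + 1) ^ 2 = e * e + 2 * e + 1 := by ring
  have h5 : b ≤ e := by
    by_contra h
    push Not at h
    have h6 : e * (e + 1) ≤ e * b := Nat.mul_le_mul_left e h
    have h7 : e * (e + 1) = e * e + e := by ring
    omega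
  have h6 : b * b ≤ e * b := Nat.mul_le_mul_right b h5
  have h7 : b ^ 2 = b * b := by ring
  omega

/-- **The BCGR bound.** -/
theorem bcgr {G Ω : Type*} [Group G] [Finite G] [MulAction G Ω] [FaithfulSMul G Ω] [Finite Ω]
    (hprim : IsPreprimitive G Ω) (D : Subgroup G) (hDn : D.Normal) (hDt : IsPretransitive D Ω)
    (hD : ∀ g : G, g ∉ D → Nat.card (fixedBy Ω g) = 1)
    (hnF : ∃ g : G, g ≠ 1 ∧ 1 < Nat.card (fixedBy Ω g)) : (D.index + 1) ^ 2 ≤ Nat.card Ω := by
  classical
  by_contra hlt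
  push Not at hlt
  obtain ⟨g₀, hg₀1, hg₀⟩ := hnF
  rw [Finite.one_lt_card_iff_nontrivial] at hg₀
  obtain ⟨⟨α₀, hα₀⟩, ⟨β₀, hβ₀⟩, hαβ⟩ := hg₀
  have hαβ' : α₀ ≠ β₀ := fun h => hαβ (Subtype.ext h)
  rw [mem_fixedBy] at hα₀ hβ₀
  have hne : Nonempty Ω := ⟨α₀⟩
  have hgD : g₀ ∈ D := two_fixed hD hαβ' hα₀ hβ₀
  -- `n ≥ 4`
  have hn4 : 4 ≤ Nat.card Ω := by
    obtain ⟨c, hc⟩ : ∃ c : Ω, g₀ • c ≠ c := by
      by_contra h
      push Not at h
      apply hg₀1
      refine FaithfulSMul.eq_of_smul_eq_smul (α := Ω) fun x => ?_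
      rw [one_smul]; exact h x
    have h1 : c ≠ α₀ := by rintro rfl; exact hc hα₀
    have h2 : c ≠ β₀ := by rintro rfl; exact hc hβ₀
    have h3 : g₀ • c ≠ α₀ := by
      intro h
      apply h1
      rw [← hα₀] at h
      exact MulAction.injective g₀ h
    have h4 : g₀ • c ≠ β₀ := by
      intro h
      apply h2
      rw [← hβ₀] at h
      exact MulAction.injective g₀ h
    have h5 : ({α₀, β₀, c, g₀ • c} : Set Ω).ncard = 4 := by
      rw [Set.ncard_insert_of_notMem, Set.ncard_insert_of_notMem, Set.ncard_pair]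
      · exact hc.symm
      · simp [h2.symm, h4.symm]
      · simp [hαβ', h1.symm, h3.symm]
    rw [← h5, ← Set.ncard_univ]
    exact Set.ncard_le_ncard (Set.subset_univ _) (Set.toFinite _)
  have hidx0 : 0 < D.index := Nat.pos_of_ne_zero Subgroup.FiniteIndex.index_ne_zero
  have he2 : 2 ≤ D.index := by
    by_contra h
    have h1 : D.index = 1 := by omega
    rw [h1] at hlt
    omega
  -- `n` is a power of a prime
  obtain ⟨p, hp, hpn⟩ := Nat.exists_prime_and_dvd (n := Nat.card Ω) (by omega)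
  have hpf : Fact p.Prime := ⟨hp⟩
  obtain ⟨b, hb1, hb2⟩ := step_one D hDt hD hp hpn
  obtain ⟨a, ha⟩ : ∃ a, Nat.card Ω = p ^ a := by
    refine ⟨_, Nat.eq_prime_pow_of_unique_prime_dvd (by omega) ?_⟩
    intro q hq hqn
    by_contra hqp
    obtain ⟨c, hc1, hc2⟩ := step_one D hDt hD hq hqn
    have h1 : (p ^ b).Coprime (q ^ c) :=
      Nat.Coprime.pow _ _ ((Nat.coprime_primes hp hq).2 (fun h => hqp h.symm))
    have h2 := Nat.le_of_dvd (by omega) (h1.mul_dvd_of_dvd_of_dvd hb1 hc1)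
    have h3 : (D.index + 1) ^ 2 ≤ p ^ b * q ^ c := by
      rw [pow_two]; exact Nat.mul_le_mul hb2 hc2
    omega
  have hDt' : ∀ y z : Ω, ∃ d ∈ D, d • y = z := by
    intro y z
    obtain ⟨d, hd⟩ := hDt.exists_smul_eq y z
    exact ⟨d, d.2, hd⟩
  -- the Sylow subgroup
  obtain ⟨P, hPD, hPp, hPi⟩ := exists_syl p D
  have hPt : ∀ y z : Ω, ∃ u ∈ P, u • y = z := by
    intro y z
    obtain ⟨d, hd⟩ := hDt.exists_smul_eq y z
    have h1 : (P.subgroupOf D).index.Coprime (stabilizer D y).index := by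
      rw [index_stabilizer_of_transitive, ha]
      exact Nat.Coprime.pow_right a ((Nat.Prime.coprime_iff_not_dvd hp).2 hPi).symm
    obtain ⟨u, hu, h, hh, hd'⟩ := S0007.exists_mul_eq _ _ h1 d
    refine ⟨u, Subgroup.mem_subgroupOf.1 hu, ?_⟩
    rw [← hd, hd', mul_smul, mem_stabilizer_iff.1 hh]
    rfl
  -- the normaliser
  obtain ⟨M, hM⟩ : ∃ M : Subgroup G, M = Subgroup.normalizer (P : Set G) := ⟨_, rfl⟩
  have hPM : P ≤ M := by rw [hM]; exact Subgroup.le_normalizer
  have hMP : ∀ g ∈ M, ∀ u ∈ P, g * u * g⁻¹ ∈ P := by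
    intro g hg u hu
    rw [hM] at hg
    exact (Subgroup.mem_normalizer_iff.1 hg u).1 hu
  have hFr : ∀ g : G, ∃ d ∈ D, d * g ∈ M := by
    intro g
    obtain ⟨h, hh, hhc⟩ := syl_conj (H := D) (P := P) (Q := P.map (MulAut.conj g).toMonoidHom)
      hPD hPi (by
        rintro _ ⟨u, hu, rfl⟩
        exact hDn.conj_mem u (hPD hu) g) (hPp.map _)
    refine ⟨h⁻¹, D.inv_mem hh, ?_⟩
    rw [hM]
    apply mem_normalizer_of
    intro u hu
    have h3 := hhc _ ⟨u, hu, rfl⟩
    have e : h⁻¹ * (MulAut.conj g).toMonoidHom u * h = h⁻¹ * g * u * (h⁻¹ * g)⁻¹ := by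
      show h⁻¹ * (g * u * g⁻¹) * h = _
      group
    rwa [e] at h3
  have hidx : ∀ Y : Subgroup G, (∀ g : G, ∃ d ∈ D, d * g ∈ Y) →
      (D.subgroupOf Y).index = D.index := by
    intro Y hY
    have h1 : D ⊔ Y = ⊤ := by
      rw [Subgroup.eq_top_iff']
      intro g
      obtain ⟨d, hd, hdg⟩ := hY g
      have e : g = d⁻¹ * (d * g) := by group
      rw [e]
      exact mul_mem (Subgroup.mem_sup_left (inv_mem hd)) (Subgroup.mem_sup_right hdg)
    have h2 := Subgroup.relIndex_sup_left Y D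
    rw [h1, Subgroup.relIndex_top_right] at h2
    exact h2.symm
  have hMt : IsPretransitive M Ω := by
    refine ⟨fun y z => ?_⟩
    obtain ⟨u, hu, huy⟩ := hPt y z
    exact ⟨⟨u, hPM hu⟩, huy⟩
  have hMprim : IsPreprimitive M Ω := by
    by_contra hc
    have hn : (D.subgroupOf M).Normal := hDn.comap _
    have h1 := imprimitive_bound hMt hc (D.subgroupOf M) (fun g hg => by
      have h2 := hD g (fun hc => hg (Subgroup.mem_subgroupOf.2 hc))
      rw [← h2]
      rfl)
    rw [hidx M hFr] at h1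
    omega
  -- the centre of `P`
  have hPnt : Nontrivial P := by
    have h1 : 1 < Nat.card Ω := by omega
    rw [Finite.one_lt_card_iff_nontrivial] at h1
    obtain ⟨y, z, hyz⟩ := h1
    obtain ⟨u, hu, huy⟩ := hPt y z
    refine ⟨⟨⟨u, hu⟩, 1, fun hc => hyz ?_⟩⟩
    have : u = 1 := congrArg Subtype.val hc
    rw [← huy, this, one_smul]
  obtain ⟨Z, hZ⟩ : ∃ Z : Subgroup G, Z = (Subgroup.center P).map P.subtype := ⟨_, rfl⟩
  have hZmem : ∀ z, z ∈ Z ↔ z ∈ P ∧ ∀ u ∈ P, u * z = z * u := by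
    intro z
    rw [hZ]
    constructor
    · rintro ⟨w, hw, rfl⟩
      refine ⟨w.2, fun u hu => ?_⟩
      have := Subgroup.mem_center_iff.1 hw ⟨u, hu⟩
      exact congrArg Subtype.val this
    · rintro ⟨h1, h2⟩
      refine ⟨⟨z, h1⟩, Subgroup.mem_center_iff.2 fun u => Subtype.ext (h2 u u.2), rfl⟩
  have hZn : (Z.subgroupOf M).Normal := by
    constructor
    intro z hz g
    rw [Subgroup.mem_subgroupOf] at hz ⊢
    rw [hZmem] at hz ⊢
    refine ⟨hMP g g.2 z hz.1, fun u hu => ?_⟩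
    have h1 : (g : G)⁻¹ * u * g ∈ P := by
      have := hMP _ (M.inv_mem g.2) u hu
      rwa [inv_inv] at this
    have h2 := hz.2 _ h1
    have e1 : u * ((g : G) * (z : G) * (g : G)⁻¹) = g * ((g : G)⁻¹ * u * g * z) * (g : G)⁻¹ := by
      group
    have e2 : ((g : G) * (z : G) * (g : G)⁻¹) * u = g * (z * ((g : G)⁻¹ * u * g)) * (g : G)⁻¹ := by
      group
    show u * ((g : G) * (z : G) * (g : G)⁻¹) = ((g : G) * (z : G) * (g : G)⁻¹) * u
    rw [e1, e2, h2]
  have hZne : ∃ z ∈ Z, z ≠ 1 := by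
    have h1 := hPp.center_nontrivial
    obtain ⟨w, hw⟩ := exists_ne (1 : Subgroup.center P)
    refine ⟨w.1, (hZmem _).2 ⟨w.1.2, fun u hu => ?_⟩, fun hc => hw ?_⟩
    · exact congrArg Subtype.val (Subgroup.mem_center_iff.1 w.2 ⟨u, hu⟩)
    · exact Subtype.ext (Subtype.ext hc)
  have hZP : Z ≤ P := fun z hz => ((hZmem z).1 hz).1
  have hZt : ∀ y z : Ω, ∃ u ∈ Z, u • y = z := by
    have h1 : IsPretransitive (Z.subgroupOf M) Ω := by
      refine IsQuasiPreprimitive.isPretransitive_of_normal (G := M) ?_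
      intro hc
      obtain ⟨z, hz, hz1⟩ := hZne
      apply hz1
      refine FaithfulSMul.eq_of_smul_eq_smul (α := Ω) fun y => ?_
      have h2 : y ∈ fixedPoints (Z.subgroupOf M) Ω := by rw [hc]; trivial
      rw [one_smul]
      exact h2 ⟨⟨z, hPM (hZP hz)⟩, Subgroup.mem_subgroupOf.2 hz⟩
    intro y z
    obtain ⟨u, hu⟩ := h1.exists_smul_eq y z
    exact ⟨u, Subgroup.mem_subgroupOf.1 u.2, hu⟩
  -- an element of `P` fixing a point is trivial
  have hreg : ∀ u ∈ P, ∀ y : Ω, u • y = y → u = 1 := by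
    intro u hu y huy
    refine FaithfulSMul.eq_of_smul_eq_smul (α := Ω) fun w => ?_
    obtain ⟨z, hz, rfl⟩ := hZt y w
    rw [one_smul, ← mul_smul, ((hZmem z).1 hz).2 u hu, mul_smul, huy]
  have hPZ : P ≤ Z := by
    intro u hu
    obtain ⟨z, hz, hzu⟩ := hZt α₀ (u • α₀)
    have h1 : z⁻¹ * u = 1 := by
      refine hreg _ (P.mul_mem (P.inv_mem (hZP hz)) hu) α₀ ?_
      rw [mul_smul, ← hzu, inv_smul_smul]
    rw [inv_mul_eq_one] at h1
    rw [← h1]; exact hz
  have hPab : ∀ u ∈ P, ∀ v ∈ P, u * v = v * u := fun u hu v hv => ((hZmem v).1 (hPZ hv)).2 u hu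
  have hPcard : Nat.card P = Nat.card Ω := by
    refine Nat.card_congr (Equiv.ofBijective (fun u : P => (u : G) • α₀) ⟨?_, ?_⟩)
    · intro u v huv
      have h1 : (v : G)⁻¹ * u = 1 := by
        refine hreg _ (P.mul_mem (P.inv_mem v.2) u.2) α₀ ?_
        rw [mul_smul]
        show (v : G)⁻¹ • (u : G) • α₀ = α₀
        rw [show (u : G) • α₀ = (v : G) • α₀ from huv, inv_smul_smul]
      rw [inv_mul_eq_one] at h1
      exact Subtype.ext h1.symm
    · intro w
      obtain ⟨u, hu, huw⟩ := hPt α₀ w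
      exact ⟨⟨u, hu⟩, huw⟩
  -- the complement
  obtain ⟨H, hH⟩ : ∃ H : Subgroup G, H = M ⊓ stabilizer G α₀ := ⟨_, rfl⟩
  have hHM : H ≤ M := by rw [hH]; exact inf_le_left
  have hHx : ∀ h ∈ H, h • α₀ = α₀ := by
    intro h hh
    rw [hH] at hh
    exact (Subgroup.mem_inf.1 hh).2
  have hMdec : ∀ g ∈ M, ∃ u ∈ P, ∃ h ∈ H, g = u * h := by
    intro g hg
    obtain ⟨u, hu, hug⟩ := hPt α₀ (g • α₀)
    refine ⟨u, hu, u⁻¹ * g, ?_, by group⟩
    rw [hH]
    refine Subgroup.mem_inf.2 ⟨M.mul_mem (M.inv_mem (hPM hu)) hg, ?_⟩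
    rw [mem_stabilizer_iff, mul_smul, ← hug, inv_smul_smul]
  have hHD : ∀ g : G, ∃ d ∈ D, d * g ∈ H := by
    intro g
    obtain ⟨d, hd, hdg⟩ := hFr g
    obtain ⟨u, hu, h, hh, huh⟩ := hMdec _ hdg
    refine ⟨u⁻¹ * d, D.mul_mem (D.inv_mem (hPD hu)) hd, ?_⟩
    rw [mul_assoc, huh, inv_mul_cancel_left]
    exact hh
  -- semiregularity
  have hcomm : ∀ h ∈ H, ∀ v ∈ P, h * v * h⁻¹ = v → h • v • α₀ = v • α₀ := by
    intro h hh v hv hc
    have e : h * v = v * h := by rw [mul_inv_eq_iff_eq_mul] at hc; exact hc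
    rw [← mul_smul, e, mul_smul, hHx h hh]
  have hFF : ∀ h ∈ H, h ≠ 1 → ∀ v ∈ P, h * v * h⁻¹ = v → v = 1 := by
    by_contra hc
    push Not at hc
    obtain ⟨r, hr, hr1, v, hv, hrv, hv1⟩ := hc
    let cg : CommGroup P :=
      { (inferInstance : Group P) with
        mul_comm := fun u v => Subtype.ext (hPab u u.2 v v.2) }
    let φ : H →* MulAut P := (Subgroup.normalizerMonoidHom P).comp
      (Subgroup.inclusion (by rw [← hM]; exact hHM : H ≤ Subgroup.normalizer (P : Set G)))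
    let act : MulDistribMulAction H P := MulDistribMulAction.compHom P φ
    have hact : ∀ (h : H) (v : P), ((h • v : P) : G) = (h : G) * v * (h : G)⁻¹ := fun h v => rfl
    have hfa : FaithfulSMul H P := by
      refine ⟨fun {h k} hhk => ?_⟩
      have h1 : ∀ v ∈ P, ((k : G)⁻¹ * h) * v * ((k : G)⁻¹ * h)⁻¹ = v := by
        intro v hv
        have h2 := congrArg Subtype.val (hhk ⟨v, hv⟩)
        rw [hact, hact] at h2
        have e : ((k : G)⁻¹ * h) * v * ((k : G)⁻¹ * h)⁻¹ =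
            (k : G)⁻¹ * ((h : G) * v * (h : G)⁻¹) * k := by group
        rw [e]
        show (k : G)⁻¹ * ((h : G) * ((⟨v, hv⟩ : P) : G) * (h : G)⁻¹) * k = v
        rw [h2]
        group
      have h3 : (k : G)⁻¹ * h ∈ H := H.mul_mem (H.inv_mem k.2) h.2
      have h4 : (k : G)⁻¹ * h = 1 := by
        refine FaithfulSMul.eq_of_smul_eq_smul (α := Ω) fun w => ?_
        obtain ⟨u, hu, rfl⟩ := hPt α₀ w
        rw [one_smul]
        exact hcomm _ h3 u hu (h1 u hu)
      rw [inv_mul_eq_one] at h4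
      exact Subtype.ext h4.symm
    have h5 := Cfsg.Agent.H895.affine_bound (V := P) (H := H) hp ⟨a, by rw [hPcard, ha]⟩
      (D.subgroupOf H) (hDn.comap _) (by
        intro h hh w hw
        have h6 : (h : G) ∉ D := fun hc => hh (Subgroup.mem_subgroupOf.2 hc)
        have h7 : (h : G) * w * (h : G)⁻¹ = w := by
          rw [← hact]; exact congrArg Subtype.val hw
        have h8 := hcomm h h.2 w w.2 h7
        by_contra hw1
        apply h6
        refine two_fixed hD ?_ h8 (hHx h h.2)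
        intro hc
        exact hw1 (Subtype.ext (hreg w w.2 α₀ hc))) ⟨⟨r, hr⟩, fun hc => hr1 (congrArg Subtype.val hc),
          ⟨v, hv⟩, fun hc => hv1 (congrArg Subtype.val hc), Subtype.ext hrv⟩
    rw [hidx H hHD, hPcard] at h5
    omega
  have hNC : ∀ C : Subgroup G, P ≤ C → C ≤ D →
      (∀ g ∈ C, g ∈ Subgroup.normalizer (P : Set G) → g ∈ P) → C = P := by
    intro C hPC hCD hN
    refine eq_of_normalizer_le hPC hPp (fun hc => hPi ?_) hPab hN hPt ha
    rw [← Subgroup.relIndex_mul_relIndex P C D hPC hCD]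
    exact hc.mul_right _
  -- centralisers
  have hCC : ∀ z ∈ P, z ≠ 1 → D ⊓ Subgroup.centralizer ({z} : Set G) = P := by
    intro z hz hz1
    refine hNC _ (le_inf hPD ?_) inf_le_left ?_
    · intro u hu
      rw [Subgroup.mem_centralizer_singleton_iff]
      exact hPab u hu z hz
    · intro g hg hgM
      rw [← hM] at hgM
      obtain ⟨u, hu, h, hh, rfl⟩ := hMdec g hgM
      have h1 := (Subgroup.mem_inf.1 hg).2
      rw [Subgroup.mem_centralizer_singleton_iff] at h1
      have h2 : h * z * h⁻¹ = z := by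
        have h3 : u * z = z * u := hPab u hu z hz
        have h4 : u * (h * z) = u * (z * h) := by
          rw [← mul_assoc, h1, ← mul_assoc, ← mul_assoc, h3]
        have h5 := mul_left_cancel h4
        rw [h5, mul_inv_cancel_right]
      by_cases hh1 : h = 1
      · rw [hh1, mul_one]; exact hu
      · exact absurd (hFF h hh hh1 z hz h2) hz1
  -- `D ∩ H ≠ 1`
  have hDH : D ⊓ H ≠ ⊥ := by
    intro hc
    have h1 : D = P := by
      refine hNC D hPD le_rfl ?_
      intro g hg hgM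
      rw [← hM] at hgM
      obtain ⟨u, hu, h, hh, rfl⟩ := hMdec g hgM
      have h2 : h ∈ D ⊓ H := by
        refine Subgroup.mem_inf.2 ⟨?_, hh⟩
        have := D.mul_mem (D.inv_mem (hPD hu)) hg
        rwa [inv_mul_cancel_left] at this
      rw [hc, Subgroup.mem_bot] at h2
      rw [h2, mul_one]; exact hu
    rw [h1] at hgD
    exact hg₀1 (hreg g₀ hgD α₀ hα₀)
  -- the number `m`
  obtain ⟨m, hm⟩ : ∃ m, m = Nat.card (D ⊓ H : Subgroup G) := ⟨_, rfl⟩
  have hm2 : 2 ≤ m := by
    have h1 := (Subgroup.one_lt_card_iff_ne_bot _).2 hDH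
    omega
  have hHcard : D.index * m = Nat.card H := by
    have h1 := (D.subgroupOf H).card_mul_index
    rw [hidx H hHD, mul_comm] at h1
    rw [← h1, hm]
    congr 1
    refine Nat.card_congr
      { toFun := fun g => ⟨⟨g.1, (Subgroup.mem_inf.1 g.2).2⟩, (Subgroup.mem_inf.1 g.2).1⟩
        invFun := fun g => ⟨g.1.1, Subgroup.mem_inf.2 ⟨g.2, g.1.2⟩⟩
        left_inv := fun g => rfl
        right_inv := fun g => rfl }
  have hHle : Nat.card H ≤ Nat.card Ω - 1 := by
    obtain ⟨v, hv⟩ := exists_ne (1 : P)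
    have h1 : Nat.card H ≤ Nat.card {w : P // w ≠ 1} := by
      refine Nat.card_le_card_of_injective
        (fun h : H => (⟨⟨(h : G) * v * (h : G)⁻¹, hMP h (hHM h.2) v v.2⟩, ?_⟩ : {w : P // w ≠ 1})) ?_
      · intro hc
        apply hv
        apply Subtype.ext
        have h2 : (h : G) * v * (h : G)⁻¹ = 1 := congrArg Subtype.val hc
        have e : (v : G) = (h : G)⁻¹ * ((h : G) * v * (h : G)⁻¹) * h := by group
        rw [e, h2]
        simp
      · intro h k hhk
        have h2 : (h : G) * v * (h : G)⁻¹ = (k : G) * v * (k : G)⁻¹ :=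
          congrArg (fun q : {w : P // w ≠ 1} => ((q.1 : P) : G)) hhk
        have h3 : ((k : G)⁻¹ * h) * v * ((k : G)⁻¹ * h)⁻¹ = v := by
          have e : ((k : G)⁻¹ * h) * v * ((k : G)⁻¹ * h)⁻¹ =
              (k : G)⁻¹ * ((h : G) * v * (h : G)⁻¹) * k := by group
          rw [e, h2]
          group
        have h4 : (k : G)⁻¹ * h ∈ H := H.mul_mem (H.inv_mem k.2) h.2
        by_contra hne
        have h5 : (k : G)⁻¹ * h ≠ 1 := by
          intro hc
          rw [inv_mul_eq_one] at hc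
          exact hne (Subtype.ext hc.symm)
        exact hv (Subtype.ext (hFF _ h4 h5 v v.2 h3))
    have h2 : Nat.card {w : P // w ≠ 1} = Nat.card Ω - 1 := by
      rw [← hPcard]
      have := Fintype.ofFinite P
      rw [Nat.card_eq_fintype_card, Nat.card_eq_fintype_card, Fintype.card_subtype_compl]
      simp
    omega
  have hmn : (m - 1) ^ 2 < Nat.card P := by
    rw [hPcard]
    exact arith he2 hm2 hlt (by rw [hHcard]; exact hHle) (by omega)
  -- not doubly transitive
  have h2t : ¬ IsMultiplyPretransitive D Ω 2 := by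
    intro hc
    rw [is_two_pretransitive_iff] at hc
    obtain ⟨g, hg⟩ : ∃ g : G, g ∉ D := by
      by_contra h
      push Not at h
      have : D = ⊤ := (Subgroup.eq_top_iff' D).2 h
      rw [this, Subgroup.index_top] at he2
      omega
    have h1 := hD g hg
    rw [Nat.card_eq_one_iff_unique] at h1
    obtain ⟨-, ⟨x, hx⟩⟩ := h1
    rw [mem_fixedBy] at hx
    obtain ⟨y, hy⟩ : ∃ y : Ω, y ≠ x := by
      have h1 : 1 < Nat.card Ω := by omega
      rw [Finite.one_lt_card_iff_nontrivial] at h1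
      exact exists_ne x
    have hgy : g • y ≠ x := by
      intro h
      rw [← hx] at h
      exact hy (MulAction.injective g h)
    obtain ⟨d, hd1, hd2⟩ := hc hy.symm hgy.symm
    have hd1' : (d : G) • x = x := hd1
    have hd2' : (d : G) • y = g • y := hd2
    apply hg
    have h3 : (d : G)⁻¹ * g ∈ D := by
      refine two_fixed hD hy ?_ ?_
      · rw [mul_smul, ← hd2', inv_smul_smul]
      · rw [mul_smul, hx, inv_smul_eq_iff, hd1']
    have := D.mul_mem d.2 h3
    rwa [mul_inv_cancel_left] at this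
  -- conclusion
  have hfin := cc_step (D := D) (Ω := Ω) hDt h2t (P.subgroupOf D) α₀ (by
      refine Subgroup.isComplement'_of_card_mul_and_disjoint ?_ ?_
      · rw [Nat.card_congr (Subgroup.subgroupOfEquivOfLe hPD).toEquiv, hPcard]
        have h1 := (stabilizer D α₀).card_mul_index
        rw [index_stabilizer_of_transitive, mul_comm] at h1
        exact h1
      · rw [Subgroup.disjoint_def]
        intro u hu hux
        exact Subtype.ext (hreg u hu α₀ hux)) (by
      intro z hz hz1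
      have h1 := hCC z hz (fun hc => hz1 (Subtype.ext hc))
      ext g
      rw [Subgroup.mem_centralizer_singleton_iff, Subgroup.mem_subgroupOf]
      constructor
      · intro hg
        rw [← h1]
        refine Subgroup.mem_inf.2 ⟨g.2, ?_⟩
        rw [Subgroup.mem_centralizer_singleton_iff]
        exact congrArg Subtype.val hg
      · intro hg
        exact Subtype.ext (hPab g hg z hz)) m (by
      have h1 : Nat.card (P.subgroupOf D) = Nat.card P :=
        Nat.card_congr (Subgroup.subgroupOfEquivOfLe hPD).toEquiv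
      rw [h1, hm]
      have hmemN : ∀ g : D, g ∈ Subgroup.normalizer ((P.subgroupOf D : Subgroup D) : Set D) ↔
          (g : G) ∈ M := by
        intro g
        constructor
        · intro hg
          rw [hM]
          apply mem_normalizer_of
          intro u hu
          have h2 := (Subgroup.mem_normalizer_iff.1 hg ⟨u, hPD hu⟩).1 (Subgroup.mem_subgroupOf.2 hu)
          exact Subgroup.mem_subgroupOf.1 h2
        · intro hg
          apply mem_normalizer_of
          intro u hu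
          exact hMP g hg u hu
      rw [← Nat.card_prod]
      refine Nat.card_congr (Equiv.ofBijective (fun q : P × (D ⊓ H : Subgroup G) =>
        (⟨⟨(q.1 : G) * q.2, D.mul_mem (hPD q.1.2) (Subgroup.mem_inf.1 q.2.2).1⟩,
          (hmemN _).2 (M.mul_mem (hPM q.1.2) (hHM (Subgroup.mem_inf.1 q.2.2).2))⟩ :
          Subgroup.normalizer ((P.subgroupOf D : Subgroup D) : Set D))) ⟨?_, ?_⟩).symm
      · rintro ⟨u, h⟩ ⟨v, k⟩ huv
        have h2 : (u : G) * h = v * k :=
          congrArg (fun q : Subgroup.normalizer ((P.subgroupOf D : Subgroup D) : Set D) =>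
            ((q.1 : D) : G)) huv
        have h3 : (v : G)⁻¹ * u = 1 := by
          refine hreg _ (P.mul_mem (P.inv_mem v.2) u.2) α₀ ?_
          have h4 : (v : G)⁻¹ * u = k * (h : G)⁻¹ := by
            rw [inv_mul_eq_iff_eq_mul, ← mul_assoc, ← h2, mul_inv_cancel_right]
          have h5 := hHx h (Subgroup.mem_inf.1 h.2).2
          rw [h4, mul_smul, inv_smul_eq_iff.2 h5.symm, hHx k (Subgroup.mem_inf.1 k.2).2]
        rw [inv_mul_eq_one] at h3
        have h4 : (h : G) = k := by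
          rw [h3] at h2
          exact mul_left_cancel h2
        rw [Prod.mk.injEq]
        exact ⟨Subtype.ext h3.symm, Subtype.ext h4⟩
      · intro g
        obtain ⟨u, hu, h, hh, hgu⟩ := hMdec _ ((hmemN g.1).1 g.2)
        have h2 : h ∈ D := by
          have := D.mul_mem (D.inv_mem (hPD hu)) g.1.2
          rwa [hgu, inv_mul_cancel_left] at this
        exact ⟨(⟨u, hu⟩, ⟨h, Subgroup.mem_inf.2 ⟨h2, hh⟩⟩), Subtype.ext (Subtype.ext hgu.symm)⟩)
    hm2 (by
      rw [Nat.card_congr (Subgroup.subgroupOfEquivOfLe hPD).toEquiv]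
      exact hmn) ⟨g₀, hgD⟩ (fun hc => hg₀1 (congrArg Subtype.val hc))
  rw [Finite.card_le_one_iff_subsingleton] at hfin
  apply hαβ
  have h1 : (⟨α₀, hα₀⟩ : fixedBy Ω (⟨g₀, hgD⟩ : D)) = ⟨β₀, hβ₀⟩ := Subsingleton.elim _ _
  exact Subtype.ext (congrArg (fun q : fixedBy Ω (⟨g₀, hgD⟩ : D) => (q : Ω)) h1)

end Cfsg.Agent.H393.Bcgr
end
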